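import Mathlib.CategoryTheory.Limits.Shapes.Products
import Groth.Agent.LoccohB.AdjIso
import Groth.Prelude.Def_CohCx

/-!
# Functors with corepresentable `Hom(P, G -)` and products; derived limits

* `bijective_comp_piComparison`
* `isRlimVia_map`: triangulated functors commuting with the product preserve derived limits (through given maps).
-/

set_option autoImplicit false
universe w v v' u u'
open CategoryTheory CategoryTheory.Limits CategoryTheory.Pretriangulated

noncomputable section
namespace K579.CorepProd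

section

variable {C : Type u} [Category.{v} C] {D : Type u'} [Category.{v'} D] (G : C ⥤ D)
  {ι : Type w} (E : ι → C) [HasProduct E] [HasProduct fun i => G.obj (E i)]

/-- If `Hom(P, G -)` is corepresented by `X`, then `Hom(P, G(∏ E)) = Hom(P, ∏ G E)`. -/
theorem bijective_comp_piComparison {P : D} {X : C} (η : P ⟶ G.obj X)
    (h : ∀ K : C, Function.Bijective (fun g : X ⟶ K => η ≫ G.map g)) :
    Function.Bijective (fun u : P ⟶ G.obj (∏ᶜ E) => u ≫ piComparison G E) := by
  constructor
  · intro u u' huu
    obtain ⟨v, rfl⟩ := (h _).2 u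
    obtain ⟨v', rfl⟩ := (h _).2 u'
    dsimp only at huu ⊢
    have : v = v' := by
      refine Pi.hom_ext _ _ fun b => (h _).1 ?_
      dsimp only
      have h1 := congrArg (fun z => z ≫ Pi.π (fun i => G.obj (E i)) b) huu
      simpa only [Category.assoc, piComparison_comp_π, ← G.map_comp] using h1
    rw [this]
  · intro w
    choose v hv using fun b => (h (E b)).2 (w ≫ Pi.π (fun i => G.obj (E i)) b)
    refine ⟨η ≫ G.map (Pi.lift v), ?_⟩
    refine Pi.hom_ext _ _ fun b => ?_
    dsimp only at hv ⊢
    rw [Category.assoc, Category.assoc, piComparison_comp_π, ← G.map_comp, Pi.lift_π, hv]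

end

section

variable {C : Type u} [Category.{v} C] [Preadditive C] [HasZeroObject C] [HasShift C ℤ]
  [∀ n : ℤ, (shiftFunctor C n).Additive] [Pretriangulated C]
  {D : Type u'} [Category.{v'} D] [Preadditive D] [HasZeroObject D] [HasShift D ℤ]
  [∀ n : ℤ, (shiftFunctor D n).Additive] [Pretriangulated D]
  (G : C ⥤ D) [G.CommShift ℤ] [G.IsTriangulated]

/-- Triangulated functors commuting with the product preserve derived limits. -/
theorem isRlimVia_map (E : ℕ → C) (t : ∀ n, E (n + 1) ⟶ E n) [HasProduct E]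
    [HasProduct fun n => G.obj (E n)] (hG : IsIso (piComparison G E))
    (L : C) (a : ∀ n, L ⟶ E n) (hL : CohCx.IsRlimVia E t L a) :
    CohCx.IsRlimVia (fun n => G.obj (E n)) (fun n => G.map (t n)) (G.obj L) (fun n => G.map (a n)) := by
  obtain ⟨c, hc⟩ := hL
  let p := asIso (piComparison G E)
  refine ⟨p.inv ≫ G.map c ≫ (G.commShiftIso (1 : ℤ)).hom.app L, ?_⟩
  refine isomorphic_distinguished _ (G.map_distinguished _ hc) _ ?_
  refine Triangle.isoMk _ _ (Iso.refl _) p.symm p.symm ?_ ?_ ?_
  · change Pi.lift _ ≫ p.inv = 𝟙 _ ≫ G.map (Pi.lift a)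
    rw [Iso.comp_inv_eq, Category.id_comp]
    refine Pi.hom_ext _ _ fun n => ?_
    simp [p]
  · change (Pi.lift _ ≫ p.inv) = p.inv ≫ G.map (Pi.lift _)
    rw [Iso.comp_inv_eq, Category.assoc, Iso.eq_inv_comp]
    refine Pi.hom_ext _ _ fun n => ?_
    have h1 : ∀ m, p.hom ≫ Pi.π (fun n => G.obj (E n)) m = G.map (Pi.π E m) := fun m =>
      piComparison_comp_π G E m
    simp only [Category.assoc, Pi.lift_π, Preadditive.comp_sub, h1, ← G.map_comp]
    rw [← Category.assoc, h1, ← G.map_comp, ← G.map_sub]
  · have h0 : (shiftFunctor D (1 : ℤ)).map (𝟙 (G.obj L)) = 𝟙 _ := CategoryTheory.Functor.map_id _ _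
    refine (congrArg (fun z => (p.inv ≫ G.map c ≫ (G.commShiftIso (1 : ℤ)).hom.app L) ≫ z) h0).trans ?_
    exact Category.comp_id _

end

end K579.CorepProd
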