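import Groth.Agent.SiteCmp.K579.LerayUnb
import Groth.Agent.SiteCmp.K579.CorepProd
import Groth.Agent.SiteCmp.K578.LerayPush
import Groth.Agent.PerfA.ExactD

/-!
# The unbounded `Rf_*` on modules on ringed sites: unbounded Leray, products

* `exists_good_epi`: every module is a quotient of a module which is acyclic for the direct images of injectives.
* `bijective_Rpush`: `Hom_D(f^* T, K) = Hom_D(T, Rf_* K)` for `T` a free module on an object, placed in any degree.
* `isIso_piComparison`: `Rf_*` commutes with products.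
-/

set_option autoImplicit false
universe w' w'' u

open CategoryTheory CategoryTheory.Limits Opposite DerivedCategory

attribute [local instance] HasDerivedCategory.standard

noncomputable section
namespace K579.RpushProd

open K578.ModTest K578.Der K578.PushComp K579.GoodObj K579.LerayUnb Groth.Agent.CohtopB

section Test

variable {A : Type*} [Category* A] [Abelian A] {C : Type*} [Category* C] {J : GrothendieckTopology C}
  {P : C ⥤ A} (hP : TestSystem J P)

include hP in
/-- For a test system every object is a quotient of a coproduct of the `P_U`. -/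
theorem epi_desc (X : A) (c : Cofan (fun i : (Σ U : C, (P.obj U ⟶ X)) => P.obj i.1)) (hc : IsColimit c) :
    Epi (Cofan.IsColimit.desc hc (fun i : (Σ U : C, (P.obj U ⟶ X)) => i.2)) := by
  set π := Cofan.IsColimit.desc hc (fun i : (Σ U : C, (P.obj U ⟶ X)) => i.2) with hπ
  have hz : IsZero (cokernel π) := by
    refine hP.isZero _ fun U x => ?_
    obtain ⟨T, hT, h⟩ := TestSys.lift' hP (cokernel.π π) x
    refine hP.joint_epi T hT x fun {V} g hg => ?_
    obtain ⟨y, hy⟩ := h g hg
    rw [← hy]
    have h1 : y = c.inj ⟨V, y⟩ ≫ π := by rw [hπ, Cofan.IsColimit.fac]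
    rw [h1, Category.assoc, cokernel.condition, comp_zero]
  exact Preadditive.epi_of_isZero_cokernel π hz

variable [HasDerivedCategory A]

include hP in
/-- The shifts of the `P_U` detect zero objects of the derived category. -/
theorem isZero_of_test (Z : DerivedCategory A)
    (h : ∀ (U : C) (m : ℤ) (u : ((singleFunctor A 0).obj (P.obj U))⟦m⟧ ⟶ Z), u = 0) : IsZero Z := by
  rw [Groth.Agent.PerfA.ExactD.isZero_iff]
  intro n
  refine hP.isZero _ fun U s => ?_
  obtain ⟨T, hT, hl⟩ := TestSys.loc_surj hP s
  refine hP.joint_epi T hT s fun {V} g hg => ?_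
  obtain ⟨x, hx⟩ := hl g hg
  rw [← hx]
  have hx0 : x = 0 := by
    let e : (Z⟦n⟧)⟦-n⟧ ≅ Z := (shiftFunctorCompIsoId (DerivedCategory A) n (-n) (by lia)).app Z
    have h1 := h V (-n) (x⟦-n⟧' ≫ e.hom)
    have h2 : x⟦-n⟧' = 0 := by
      rw [← cancel_mono e.hom, h1, zero_comp]
    exact (shiftFunctor (DerivedCategory A) (-n)).map_injective (by rw [h2, Functor.map_zero])
  rw [hx0, Can.can_zero]

end Test

variable {C : Type u} [SmallCategory C] {J : GrothendieckTopology C} {O_C : Sheaf J CommRingCat.{u}}
    {D : Type u} [SmallCategory D] {K : GrothendieckTopology D} {O_D : Sheaf K CommRingCat.{u}}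
    (f : ModSite.RMor O_C O_D)

/-- Every module is a quotient of a module acyclic for direct images of injective modules. -/
theorem exists_good_epi [HasExt.{w'} (ModSite.Mod O_D)] (X : ModSite.Mod O_D) :
    ∃ (Y : ModSite.Mod O_D) (π : Y ⟶ X), Good f.push Y ∧ Epi π := by
  have := isGrothendieckAbelian O_D
  have := enoughInjectives O_D
  have hc : HasCoproduct (fun i : (Σ U : D, ((PO O_D).obj U ⟶ X)) => (PO O_D).obj i.1) := inferInstance
  refine ⟨_, Cofan.IsColimit.desc (coproductIsCoproduct (fun i : (Σ U : D, ((PO O_D).obj U ⟶ X)) =>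
    (PO O_D).obj i.1)) (fun i => i.2), ?_, epi_desc (testSystem _) X _ _⟩
  refine good_cofan f.push _ _ (coproductIsCoproduct _) fun i => ?_
  intro I hI n x
  have := K578.LerayPush.subsingleton_ext_push f I i.1 n
  exact Subsingleton.elim _ _

lemma bijective_of_iso_src {E : Type*} [Category* E] {P P' X Y : E} (e : P ≅ P') (φ : X ⟶ Y)
    (h : Function.Bijective (fun u : P' ⟶ X => u ≫ φ)) : Function.Bijective (fun u : P ⟶ X => u ≫ φ) := by
  constructor
  · intro u u' huu
    dsimp only at huu
    have := @h.1 (e.inv ≫ u) (e.inv ≫ u') (by simp only [Category.assoc, huu])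
    rwa [cancel_epi] at this
  · intro w
    obtain ⟨u, hu⟩ := h.2 (e.inv ≫ w)
    dsimp only at hu
    exact ⟨e.hom ≫ u, by dsimp only; rw [Category.assoc, hu, Iso.hom_inv_id_assoc]⟩

/-- The free module on `V` in degree `j`. -/
abbrev sg (V : D) (j : ℤ) : HomotopyCategory (ModSite.Mod O_D) (ComplexShape.up ℤ) :=
  (HomotopyCategory.quotient _ _).obj ((CochainComplex.singleFunctor (ModSite.Mod O_D) j).obj ((PO O_D).obj V))

/-- `P_V[m]` in the derived category is the class of `P_V` in degree `-m`. -/
def sgIso (V : D) (m : ℤ) : ((singleFunctor (ModSite.Mod O_D) 0).obj ((PO O_D).obj V))⟦m⟧ ≅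
    Qh.obj (sg (O_D := O_D) V (-m)) :=
  ((singleFunctors (ModSite.Mod O_D)).shiftIso m (-m) 0 (by lia)).app ((PO O_D).obj V) ≪≫
    (singleFunctorIsoCompQ (ModSite.Mod O_D) (-m)).app ((PO O_D).obj V)

variable [SiteCmp.HasRpushD f]

/-- Unbounded Leray: `Hom_D(f^* P_V[-j], K) = Hom_D(P_V[-j], Rf_* K)` for all `K` in `D(O_C)`. -/
theorem bijective_Rpush (V : D) (j : ℤ) (K : DerivedCategory (ModSite.Mod O_C)) :
    Function.Bijective (fun g : Qh.obj ((f.pull.mapHomotopyCategory (ComplexShape.up ℤ)).obj
        (sg (O_D := O_D) V j)) ⟶ K =>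
      eta (Groth.Agent.Dcoh.DerAdj.adjHo f.adj (ComplexShape.up ℤ)) (sg (O_D := O_D) V j) (SiteCmp.RpushD f)
        (rpushUnit f) ≫ (SiteCmp.RpushD f).map g) := by
  have := enoughInjectives O_C
  have : HasExt.{u + 1} (ModSite.Mod O_D) := HasExt.standard _
  have hP : ∀ X : ModSite.Mod O_D, ∃ (Y : ModSite.Mod O_D) (π : Y ⟶ X), Good f.push Y ∧ Epi π :=
    fun X => exists_good_epi f X
  have hT : ∀ i, Good f.push (((CochainComplex.singleFunctor (ModSite.Mod O_D) j).obj
      ((PO O_D).obj V)).X i) := by
    intro i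
    by_cases hi : i = j
    · subst hi
      refine (adapted f.adj).of_iso (HomologicalComplex.singleObjXSelf (ComplexShape.up ℤ) i ((PO O_D).obj V)).symm ?_
      intro I hI n x
      have := K578.LerayPush.subsingleton_ext_push f I V n
      exact Subsingleton.elim _ _
    · exact good_of_isZero f.push _ (HomologicalComplex.isZero_single_obj_X (ComplexShape.up ℤ) j _ i hi)
  have : ((CochainComplex.singleFunctor (ModSite.Mod O_D) j).obj ((PO O_D).obj V)).IsStrictlyLE j := inferInstance
  exact bijective_RF_abs (Groth.Agent.Dcoh.DerAdj.adjHo f.adj (ComplexShape.up ℤ)) _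
    (hyp f.adj hP ((CochainComplex.singleFunctor (ModSite.Mod O_D) j).obj ((PO O_D).obj V)) j hT)
    (hasKInj O_C) (SiteCmp.RpushD f) (rpushUnit f)
    (fun M hM => isIso_rpushUnit_app f M.as (Groth.Agent.Dcoh.DerHo.isKInjective_as hM)) K

/-- `Rf_*` commutes with products. -/
theorem isIso_piComparison {ι : Type w'} (E : ι → DerivedCategory (ModSite.Mod O_C)) [HasProduct E]
    [HasProduct fun i => (SiteCmp.RpushD f).obj (E i)] : IsIso (piComparison (SiteCmp.RpushD f) E) := by
  refine Groth.Agent.LoccohB.AdjIso.isIso_of_generators (fun V : D => (singleFunctor (ModSite.Mod O_D) 0).obj ((PO O_D).obj V))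
    _ (fun Z _ _ _ hZ => isZero_of_test (testSystem (ModSite.ringSh O_D)) Z hZ) fun V m => ?_
  exact bijective_of_iso_src (sgIso V m) _
    (K579.CorepProd.bijective_comp_piComparison (SiteCmp.RpushD f) E _ (bijective_Rpush f V (-m)))

end K579.RpushProd
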