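import Groth.Agent.SiteCmp.K579.Abs

/-!
# Comparison of two topologies, abstract part: statements with right derived functors

* `mono_unit`: `R^{n+1} ε F ⟶ π' (R^{n+1} ε F)` is a monomorphism.
* `nonempty_iso_rightDerived`: `R^i G' (ε₁ F) ≅ ε₂ (R^i G F)` for `i ≤ n`.
-/

set_option autoImplicit false
universe w w' v u
open CategoryTheory CategoryTheory.Limits

set_option linter.unusedSectionVars false

noncomputable section
namespace K579.Abs2

open Groth.Agent Groth.Agent.Etrest.RDer3 Groth.Agent.Sga4h.WayOut DerivedCategory Pretriangulated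
open K579.TRTrunc K579.Abs

section res

variable {T : Type u} [Category.{v} T] [Abelian T] [EnoughInjectives T] [HasKInj T]
  [HasDerivedCategory.{w} T]

/-- A K-injective resolution of an object, strictly `≥ 0`. -/
theorem exists_res (F : T) : ∃ (I : CochainComplex T ℤ) (_ : I.IsKInjective) (_ : I.IsStrictlyGE 0),
    Nonempty ((DerivedCategory.singleFunctor T 0).obj F ≅ DerivedCategory.Q.obj I) ∧
    (∀ i : ℤ, 0 < i → IsZero ((homologyFunctor T i).obj (DerivedCategory.Q.obj I))) ∧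
    Nonempty ((homologyFunctor T 0).obj (DerivedCategory.Q.obj I) ≅ F) := by
  obtain ⟨I, h1, h2, -, ⟨e⟩⟩ := exists_inj_iso ((DerivedCategory.singleFunctor T 0).obj F) 0
  refine ⟨I, h2, h1, ⟨e⟩, fun i hi => ?_, ⟨(homologyFunctor T 0).mapIso e.symm ≪≫
    (singleFunctorCompHomologyFunctorIso T 0).app F⟩⟩
  exact (isZero_of_isLE ((DerivedCategory.singleFunctor T 0).obj F) 0 i hi).of_iso
    ((homologyFunctor T i).mapIso e.symm)

end res

section

variable {T : Type u} [Category.{v} T] (π : T ⥤ T) (η : 𝟭 T ⟶ π)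

lemma mono_app_of_iso {X Y : T} (e : X ≅ Y) (h : Mono (η.app X)) : Mono (η.app Y) := by
  have h1 : η.app Y = e.inv ≫ η.app X ≫ π.map e.hom := by
    have := η.naturality e.hom
    dsimp at this
    rw [← this, Iso.inv_hom_id_assoc]
  rw [h1]
  have : Mono (η.app X ≫ π.map e.hom) := @mono_comp _ _ _ _ _ _ h _ inferInstance
  exact @mono_comp _ _ _ _ _ _ inferInstance _ this

end

section

variable {T : Type u} [Category.{v} T] [Abelian T] {T' : Type u} [Category.{v} T'] [Abelian T']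
  {ε : T ⥤ T'} {a : T' ⥤ T} (adj : a ⊣ ε)
  [ε.Additive] [a.Additive] [PreservesFiniteLimits a] [PreservesFiniteColimits a]
  [ε.Full] [ε.Faithful] [EnoughInjectives T] [HasKInj T]
  [EnoughInjectives T'] [HasKInj T'] (A' : ObjectProperty T') [WSerre.IsWeakSerre A']
  (hA : ∀ F, A' F → IsIso (adj.unit.app F))
  (π' : T' ⥤ T') [π'.Additive] (η' : 𝟭 T' ⟶ π') (π : T ⥤ T) [π.Additive] (η : 𝟭 T ⟶ π)
  (θ : ε ⋙ π' ≅ π ⋙ ε) (hθ : ∀ X, η'.app (ε.obj X) ≫ θ.hom.app X = ε.map (η.app X))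
  (hπ : ∀ I : CochainComplex T ℤ, I.IsKInjective →
    CochainComplex.IsKInjective ((π.mapHomologicalComplex (.up ℤ)).obj I))
  (hη : ∀ X, Mono (η.app X))
  (hR : ∀ F, A' F → ∀ i, A' ((π'.rightDerived i).obj F))
  (n : ℕ) (hV : ∀ F, A' F → ∀ i : ℕ, 1 ≤ i → i ≤ n → IsZero ((ε.rightDerived i).obj (a.obj F)))

attribute [local instance] HasDerivedCategory.standard

include adj hA hθ hπ hη hR hV in
/-- The induction step: `R^{n+1} ε F ⟶ π' (R^{n+1} ε F)` is a monomorphism. -/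
theorem mono_unit (F : T) (hF : A' (ε.obj F)) : Mono (η'.app ((ε.rightDerived (n + 1)).obj F)) := by
  obtain ⟨I, hI, hI0, -, hI1, ⟨e⟩⟩ := exists_res F
  obtain ⟨e'⟩ := nonempty_iso_H adj I hI1 (n + 1)
  exact mono_app_of_iso π' η' (e' ≪≫ (ε.rightDerived (n + 1)).mapIso e)
    (mono_unit_aux adj hA θ hθ hπ hη hR n hV I hI hI1 (A'.prop_of_iso (ε.mapIso e.symm) hF))

end

section

variable {T₁ : Type u} [Category.{v} T₁] [Abelian T₁] {T₁' : Type u} [Category.{v} T₁'] [Abelian T₁']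
  {ε₁ : T₁ ⥤ T₁'} {a₁ : T₁' ⥤ T₁} (adj₁ : a₁ ⊣ ε₁)
  [ε₁.Additive] [a₁.Additive] [PreservesFiniteLimits a₁] [PreservesFiniteColimits a₁]
  [ε₁.Full] [ε₁.Faithful] [EnoughInjectives T₁] [HasKInj T₁] [EnoughInjectives T₁'] [HasKInj T₁']
  {T₂ : Type u} [Category.{v} T₂] [Abelian T₂] {T₂' : Type u} [Category.{v} T₂'] [Abelian T₂']
  {ε₂ : T₂ ⥤ T₂'} {a₂ : T₂' ⥤ T₂} (adj₂ : a₂ ⊣ ε₂)
  [ε₂.Additive] [a₂.Additive] [PreservesFiniteLimits a₂] [PreservesFiniteColimits a₂]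
  [ε₂.Full] [ε₂.Faithful]
  (G : T₁ ⥤ T₂) [G.Additive] (G' : T₁' ⥤ T₂') [G'.Additive] (θ : ε₁ ⋙ G' ≅ G ⋙ ε₂)
  [PreservesFiniteLimits G]

attribute [local instance] HasDerivedCategory.standard

include adj₁ adj₂ θ in
/-- `R^i G' (ε₁ F) ≅ ε₂ (R^i G F)` for `i ≤ n` if `R^i ε₁ F = 0` for `1 ≤ i ≤ n`. -/
theorem nonempty_iso_rightDerived (F : T₁) (n : ℕ)
    (hV : ∀ i : ℕ, 1 ≤ i → i ≤ n → IsZero ((ε₁.rightDerived i).obj F))
    (i : ℕ) (hi : i ≤ n) (hR : IsIso (adj₂.unit.app ((G'.rightDerived i).obj (ε₁.obj F)))) :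
    Nonempty ((G'.rightDerived i).obj (ε₁.obj F) ≅ ε₂.obj ((G.rightDerived i).obj F)) := by
  obtain ⟨I, hI, hI0, ⟨eI⟩, hI1, ⟨e⟩⟩ := exists_res F
  have := preservesFiniteLimits_eps adj₁
  have hεI := isKInj_eps adj₁ I hI
  have hK : ((TR ε₁).obj (DerivedCategory.Q.obj I)).IsGE 0 := TR_isGE ε₁ _ 0
  have gap : ∀ i : ℤ, 0 < i → i ≤ 0 + n →
      IsZero ((homologyFunctor T₁' i).obj ((TR ε₁).obj (DerivedCategory.Q.obj I))) := by
    intro i h1 h2
    obtain ⟨q, rfl⟩ := Int.eq_ofNat_of_zero_le h1.le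
    obtain ⟨e'⟩ := nonempty_iso_H adj₁ I hI1 q
    have h3 : (0 : ℤ) + q = q := zero_add _
    rw [h3] at e'
    exact (hV q (by lia) (by lia)).of_iso (e' ≪≫ (ε₁.rightDerived q).mapIso e)
  obtain ⟨e₀⟩ := nonempty_iso_H adj₁ I hI1 0
  -- `H^i(Q (ε₂ (G I))) ≅ R^i G' (ε₁ F)`
  obtain ⟨e₁⟩ := nonempty_iso_homology_TR (B := T₂') G'
    ((TR ε₁).obj (DerivedCategory.Q.obj I)) 0 n gap i hi
  have h1 := isIso_unitQ_of_isKInjective G' _ hεI
  have h2 := isIso_unitQ_of_isKInjective G I hI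
  let t : (G'.mapHomologicalComplex (.up ℤ)).obj ((ε₁.mapHomologicalComplex (.up ℤ)).obj I) ≅
      (ε₂.mapHomologicalComplex (.up ℤ)).obj ((G.mapHomologicalComplex (.up ℤ)).obj I) :=
    HomologicalComplex.Hom.isoOfComponents (fun j => θ.app (I.X j))
      (fun j k _ => (θ.hom.naturality (I.d j k)).symm)
  let e₂ : ((ε₂.mapHomologicalComplex (.up ℤ)).obj
      ((G.mapHomologicalComplex (.up ℤ)).obj I)).homology (0 + i) ≅
      (G'.rightDerived i).obj (ε₁.obj F) :=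
    (homologyFunctorFactors T₂' (0 + i)).symm.app _ ≪≫
      (homologyFunctor T₂' (0 + i)).mapIso (DerivedCategory.Q.mapIso t.symm ≪≫
        asIso ((unitQ G').app _) ≪≫ (TR G').mapIso (eK (ε := ε₁) I hI)) ≪≫ e₁ ≪≫
      (G'.rightDerived i).mapIso (e₀ ≪≫ ε₁.rightDerivedZeroIsoSelf.app _ ≪≫ ε₁.mapIso e)
  -- `R^i G F ≅ H^i(G I) ≅ a₂ H^i(ε₂ (G I))`
  obtain ⟨e₃⟩ := nonempty_iso_homology_TR (B := T₂) G (DerivedCategory.Q.obj I) 0 i
    (fun j h1 _ => hI1 j h1) i le_rfl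
  let e₄ : ((G.mapHomologicalComplex (.up ℤ)).obj I).homology (0 + i) ≅ (G.rightDerived i).obj F :=
    (homologyFunctorFactors T₂ (0 + i)).symm.app _ ≪≫
      (homologyFunctor T₂ (0 + i)).mapIso (asIso ((unitQ G).app I)) ≪≫ e₃ ≪≫
      (G.rightDerived i).mapIso e
  let e₅ : a₂.obj ((G'.rightDerived i).obj (ε₁.obj F)) ≅ (G.rightDerived i).obj F :=
    a₂.mapIso e₂.symm ≪≫ aHomologyIso adj₂ _ _ ≪≫ e₄
  exact ⟨@asIso _ _ _ _ (adj₂.unit.app ((G'.rightDerived i).obj (ε₁.obj F))) hR ≪≫ ε₂.mapIso e₅⟩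

end

end K579.Abs2
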