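import Groth.Agent.PerfA.CohomIn
import Groth.Agent.PerfA.ExactD
import Groth.Agent.PerfB.HomBijOn
import Groth.Prelude.Def_WeakSerre

/-!
# Bounded dévissage for exact functors and weak Serre subcategories

`Φ : A ⥤ B` exact, `P`, `Q` weak Serre subcategories, `Φ : P ≌ Q`, and
`Hom(F, F'[n]) → Hom(Φ F, Φ F'[n])` bijective for `F, F'` in `P`. Then `D^b_P(A) → D^b_Q(B)` is an equivalence.

* `homBijTo F Γ`: the objects `X` with `F` bijective on `Hom(X, Y)`, `Y ∈ Γ`; it is triangulated.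
* `cohInBdd_map`, `bijective`, `exists_iso`.
-/

set_option autoImplicit false
set_option linter.unusedSectionVars false
universe w w' v v' u u'
open CategoryTheory CategoryTheory.Limits CategoryTheory.Pretriangulated

noncomputable section
namespace K579.BddEquiv

open Groth.Agent Groth.Agent.PerfB.DQTri Groth.Agent.PerfB.HomBijOn Groth.Agent.PerfA.CohomIn

section To

variable {C D : Type*} [Category* C] [Category* D] (F : C ⥤ D) (Γ : ObjectProperty C)

/-- The objects `X` such that `F` is bijective on `Hom(X, Y)` for `Y` in the class `Γ`. -/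
def homBijTo : ObjectProperty C :=
  fun X => ∀ Y : C, Γ Y → Function.Bijective (fun f : X ⟶ Y => F.map f)

instance : (homBijTo F Γ).IsClosedUnderIsomorphisms where
  of_iso e h Y hY := bijective_map_of_iso F e (Iso.refl Y) (h Y hY)

variable [HasShift C ℤ] [HasShift D ℤ] [F.CommShift ℤ] [Γ.IsStableUnderShift ℤ]

instance : (homBijTo F Γ).IsStableUnderShift ℤ where
  isStableUnderShiftBy n :=
    { le_shift := by
        intro X hX Y hY
        have e : (Y⟦-n⟧)⟦n⟧ ≅ Y := (shiftEquiv C n).counitIso.app Y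
        exact bijective_map_of_iso F (Iso.refl _) e
          (bijective_map_shift F n (hX _ (Γ.le_shift (-n) _ hY))) }

variable [HasZeroObject C] [HasZeroObject D] [Preadditive C] [Preadditive D]
  [∀ (n : ℤ), (shiftFunctor C n).Additive] [∀ (n : ℤ), (shiftFunctor D n).Additive]
  [Pretriangulated C] [Pretriangulated D] [F.IsTriangulated]

lemma homBijTo_of_isZero {X : C} (hX : IsZero X) : homBijTo F Γ X := by
  intro Y _
  constructor
  · intro f g _
    exact hX.eq_of_src f g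
  · intro g
    exact ⟨0, (F.map_isZero hX).eq_of_src _ _⟩

set_option backward.isDefEq.respectTransparency false in
instance : (homBijTo F Γ).IsTriangulatedClosed₂ :=
  .mk' (by
    intro T hT h₁ h₃ Y hY
    have hFT := F.map_distinguished T hT
    have hinv := inv_rot_of_distTriang _ hT
    have h₃' : homBijTo F Γ (T.obj₃⟦(-1 : ℤ)⟧) := (homBijTo F Γ).le_shift (-1 : ℤ) _ h₃
    have h₁' : homBijTo F Γ (T.obj₁⟦(1 : ℤ)⟧) := (homBijTo F Γ).le_shift (1 : ℤ) _ h₁
    constructor
    · suffices h : ∀ f : T.obj₂ ⟶ Y, F.map f = 0 → f = 0 by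
        intro f g hfg
        rw [← sub_eq_zero]
        apply h
        rw [F.map_sub, sub_eq_zero]
        exact hfg
      intro f hf
      have hfz : T.mor₁ ≫ f = 0 := by
        apply (h₁ Y hY).1
        dsimp only
        rw [F.map_comp, hf, comp_zero, F.map_zero]
      obtain ⟨g, rfl⟩ := Triangle.yoneda_exact₂ _ hT f hfz
      rw [F.map_comp] at hf
      have hrot := rot_of_distTriang _ hT
      have hFrot := F.map_distinguished _ hrot
      obtain ⟨w, hw⟩ := Triangle.yoneda_exact₂ _ hFrot (F.map g) hf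
      obtain ⟨w', rfl⟩ := (h₁' Y hY).2 w
      have : g = T.mor₃ ≫ w' := by
        apply (h₃ Y hY).1
        dsimp only
        rw [F.map_comp]
        exact hw
      rw [this, ← Category.assoc, comp_distTriang_mor_zero₂₃ _ hT, zero_comp]
    · intro g
      obtain ⟨h, hh⟩ := (h₁ Y hY).2 (F.map T.mor₁ ≫ g)
      dsimp only at hh
      have hz : T.invRotate.mor₁ ≫ h = 0 := by
        apply (h₃' Y hY).1
        dsimp only
        have h12 : T.invRotate.mor₁ ≫ T.mor₁ = 0 := comp_distTriang_mor_zero₁₂ _ hinv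
        have h13 : F.map T.invRotate.mor₁ ≫ F.map T.mor₁ = 0 := by
          refine (F.map_comp _ _).symm.trans ?_
          rw [h12, F.map_zero]
        refine (F.map_comp _ _).trans ?_
        rw [hh]
        refine (Category.assoc _ _ _).symm.trans ?_
        refine (congrArg (fun z => z ≫ g) h13).trans ?_
        rw [zero_comp, F.map_zero]
      obtain ⟨k, hk⟩ : ∃ k : T.obj₂ ⟶ Y, h = T.mor₁ ≫ k := Triangle.yoneda_exact₂ _ hinv h hz
      subst hk
      have hz' : F.map T.mor₁ ≫ (g - F.map k) = 0 := by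
        rw [Preadditive.comp_sub, ← F.map_comp, hh, sub_self]
      obtain ⟨m, hm⟩ := Triangle.yoneda_exact₂ _ hFT _ hz'
      obtain ⟨m', rfl⟩ := (h₃ Y hY).2 m
      refine ⟨k + T.mor₂ ≫ m', ?_⟩
      dsimp only at hm ⊢
      rw [F.map_add, F.map_comp]
      have : F.map T.mor₂ ≫ F.map m' = g - F.map k := hm.symm
      rw [this]
      abel)

instance (priority := 100) containsZero_homBijTo : (homBijTo F Γ).ContainsZero where
  exists_zero := ⟨_, isZero_zero C, homBijTo_of_isZero F Γ (isZero_zero C)⟩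

instance : (homBijTo F Γ).IsTriangulated where

end To

section Ab

open DerivedCategory

variable {A : Type u} [Category.{v} A] [Abelian A] [HasDerivedCategory.{w} A]
  {B : Type u'} [Category.{v'} B] [Abelian B] [HasDerivedCategory.{w'} B]
  (Φ : A ⥤ B) [Φ.Additive] [PreservesFiniteLimits Φ] [PreservesFiniteColimits Φ]
  (P : ObjectProperty A) [WSerre.IsWeakSerre P] (Q : ObjectProperty B) [WSerre.IsWeakSerre Q]

lemma cohInBdd_eq : WSerre.cohInBdd P = coh P ⊓ (TStructure.t : Triangulated.TStructure (DerivedCategory A)).bounded := rfl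

instance : (WSerre.cohInBdd P).IsTriangulated := by
  rw [cohInBdd_eq]
  infer_instance

instance : (WSerre.cohInBdd P).IsClosedUnderIsomorphisms := by
  rw [cohInBdd_eq]
  infer_instance

/-- Dévissage for `D^b_P`. -/
theorem cohInBdd_induction (S : ObjectProperty (DerivedCategory A)) [S.IsTriangulated]
    [S.IsClosedUnderIsomorphisms] (hS : ∀ M : A, P M → S ((singleFunctor A 0).obj M))
    (K : DerivedCategory A) (hK : WSerre.cohInBdd P K) : S K := by
  obtain ⟨hK, ⟨a, ha⟩, ⟨b, hb⟩⟩ := hK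
  have ha' : K.IsGE a := ha
  have hb' : K.IsLE b := hb
  refine bounded_induction P S (fun T hT h₁ h₃ => S.ext_of_isTriangulatedClosed₂ T hT h₁ h₃) a b
    (fun M hM i _ _ => ?_) (fun K hK => S.prop_of_isZero hK) K hK
  have e : (singleFunctor A i).obj M ≅ ((singleFunctor A 0).obj M)⟦-i⟧ :=
    (((singleFunctors A).shiftIso (-i) i 0 (by omega)).app M).symm
  exact S.prop_of_iso e.symm (S.le_shift (-i) _ (hS M hM))

/-- `Φ` sends `D^b_P` to `D^b_Q`. -/
theorem cohInBdd_map (h1 : ∀ M, P M → Q (Φ.obj M)) (K : DerivedCategory A) (hK : WSerre.cohInBdd P K) :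
    WSerre.cohInBdd Q (Φ.mapDerivedCategory.obj K) := by
  obtain ⟨hK, ⟨a, ha⟩, ⟨b, hb⟩⟩ := hK
  have ha' : K.IsGE a := ha
  have hb' : K.IsLE b := hb
  refine ⟨fun i => Q.prop_of_iso ((PerfA.ExactD.mapHomology Φ i).app K).symm (h1 _ (hK i)), ⟨a, ?_⟩, ⟨b, ?_⟩⟩
  · exact PerfA.ExactD.isGE_map Φ K a
  · exact PerfA.ExactD.isLE_map Φ K b

/-- The shifts of objects of `P` in degree `0`. -/
def shifts : ObjectProperty (DerivedCategory A) := fun X =>
  ∃ (F : A) (_ : P F) (m : ℤ), Nonempty (((singleFunctor A 0).obj F)⟦m⟧ ≅ X)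

instance : (shifts P).IsStableUnderShift ℤ where
  isStableUnderShiftBy n :=
    { le_shift := by
        rintro X ⟨F, hF, m, ⟨e⟩⟩
        exact ⟨F, hF, m + n, ⟨(shiftFunctorAdd (DerivedCategory A) m n).app _ ≪≫
          (shiftFunctor (DerivedCategory A) n).mapIso e⟩⟩ }

variable (h2 : ∀ (F F' : A), P F → P F' → ∀ n : ℤ,
      Function.Bijective (fun φ : ((singleFunctor A 0).obj F ⟶ ((singleFunctor A 0).obj F')⟦n⟧) =>
        Φ.mapDerivedCategory.map φ))

include h2 in
/-- `Φ` is fully faithful on `D^b_P`. -/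
theorem bijective (K L : DerivedCategory A) (hK : WSerre.cohInBdd P K) (hL : WSerre.cohInBdd P L) :
    Function.Bijective (fun φ : K ⟶ L => Φ.mapDerivedCategory.map φ) := by
  have hL' : homBijOn Φ.mapDerivedCategory (shifts P) L := by
    refine cohInBdd_induction P (homBijOn Φ.mapDerivedCategory (shifts P)) (fun F' hF' => ?_) L hL
    rintro X ⟨F, hF, m, ⟨e⟩⟩
    have h3 := bijective_map_shift Φ.mapDerivedCategory m (h2 F F' hF hF' (-m))
    exact bijective_map_of_iso Φ.mapDerivedCategory e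
      ((shiftEquiv (DerivedCategory A) m).counitIso.app ((singleFunctor A 0).obj F')) h3
  have hK' : homBijTo Φ.mapDerivedCategory (homBijOn Φ.mapDerivedCategory (shifts P)) K := by
    refine cohInBdd_induction P _ (fun F hF Y hY => ?_) K hK
    exact hY _ ⟨F, hF, 0, ⟨(shiftFunctorZero (DerivedCategory A) ℤ).app _⟩⟩
  exact hK' L hL'

/-- The essential image of `D^b_P`. -/
def img : ObjectProperty (DerivedCategory B) := fun M =>
  ∃ K : DerivedCategory A, WSerre.cohInBdd P K ∧ Nonempty (Φ.mapDerivedCategory.obj K ≅ M)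

instance : (img Φ P).IsClosedUnderIsomorphisms where
  of_iso := by
    rintro X Y e ⟨K, hK, ⟨e'⟩⟩
    exact ⟨K, hK, ⟨e' ≪≫ e⟩⟩

instance : (img Φ P).IsStableUnderShift ℤ where
  isStableUnderShiftBy n :=
    { le_shift := by
        rintro X ⟨K, hK, ⟨e⟩⟩
        exact ⟨K⟦n⟧, (WSerre.cohInBdd P).le_shift n _ hK, ⟨(Φ.mapDerivedCategory.commShiftIso n).app K ≪≫
          (shiftFunctor (DerivedCategory B) n).mapIso e⟩⟩ }

instance : (img Φ P).ContainsZero where
  exists_zero := by
    obtain ⟨Z, h0⟩ : ∃ Z : DerivedCategory A, IsZero Z := HasZeroObject.zero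
    exact ⟨_, Φ.mapDerivedCategory.map_isZero h0, Z, (WSerre.cohInBdd P).prop_of_isZero h0, ⟨Iso.refl _⟩⟩

include h2 in
theorem img_triangulatedClosed : (img Φ P).IsTriangulatedClosed₂ := .mk' (by
  rintro T hT ⟨K₁, hK₁, ⟨e₁⟩⟩ ⟨K₃, hK₃, ⟨e₃⟩⟩
  obtain ⟨g, hg⟩ := (bijective Φ P h2 K₃ (K₁⟦(1 : ℤ)⟧) hK₃ ((WSerre.cohInBdd P).le_shift 1 _ hK₁)).2
    (e₃.hom ≫ T.mor₃ ≫ (shiftFunctor (DerivedCategory B) (1 : ℤ)).map e₁.inv ≫
      (Φ.mapDerivedCategory.commShiftIso (1 : ℤ)).inv.app K₁)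
  dsimp only at hg
  obtain ⟨K, α, β, hKT⟩ := distinguished_cocone_triangle₂ g
  have hK : WSerre.cohInBdd P K := (WSerre.cohInBdd P).ext_of_isTriangulatedClosed₂ _ hKT hK₁ hK₃
  have hT' := Φ.mapDerivedCategory.map_distinguished _ hKT
  have comm : (Φ.mapDerivedCategory.mapTriangle.obj (Triangle.mk α β g)).mor₃ ≫
      (shiftFunctor (DerivedCategory B) (1 : ℤ)).map e₁.hom = e₃.hom ≫ T.mor₃ := by
    change (Φ.mapDerivedCategory.map g ≫ (Φ.mapDerivedCategory.commShiftIso (1 : ℤ)).hom.app K₁) ≫ _ = _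
    rw [hg]
    have h5 : (shiftFunctor (DerivedCategory B) (1 : ℤ)).map e₁.inv ≫
        (shiftFunctor (DerivedCategory B) (1 : ℤ)).map e₁.hom = 𝟙 _ := by
      rw [← Functor.map_comp, e₁.inv_hom_id, CategoryTheory.Functor.map_id]
    simp only [Category.assoc, Iso.inv_hom_id_app_assoc]
    refine (congrArg (fun z => e₃.hom ≫ T.mor₃ ≫ z) h5).trans ?_
    simp
  obtain ⟨b, hb₁, hb₂⟩ := complete_distinguished_triangle_morphism₂ _ _ hT' hT e₁.hom e₃.hom comm
  let φ : Φ.mapDerivedCategory.mapTriangle.obj (Triangle.mk α β g) ⟶ T :=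
    { hom₁ := e₁.hom
      hom₂ := b
      hom₃ := e₃.hom
      comm₁ := hb₁
      comm₂ := hb₂
      comm₃ := comm }
  have hb : IsIso b := isIso₂_of_isIso₁₃ φ hT' hT (inferInstanceAs (IsIso e₁.hom))
    (inferInstanceAs (IsIso e₃.hom))
  exact ⟨K, hK, ⟨@asIso _ _ _ _ b hb⟩⟩)

include h2 in
/-- `D^b_P → D^b_Q` is essentially surjective. -/
theorem exists_iso (hQ : ∀ N, Q N → ∃ M, P M ∧ Nonempty (Φ.obj M ≅ N)) (M : DerivedCategory B)
    (hM : WSerre.cohInBdd Q M) :
    ∃ K : DerivedCategory A, WSerre.cohInBdd P K ∧ Nonempty (Φ.mapDerivedCategory.obj K ≅ M) := by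
  have h3 := img_triangulatedClosed Φ P h2
  have h4 : (img Φ P).IsTriangulated := {}
  refine cohInBdd_induction Q (img Φ P) (fun N hN => ?_) M hM
  obtain ⟨M, hM, ⟨e⟩⟩ := hQ N hN
  refine ⟨(singleFunctor A 0).obj M, ⟨coh_single P M hM 0, ⟨0, ?_⟩, ⟨0, ?_⟩⟩,
    ⟨(Φ.mapDerivedCategorySingleFunctor 0).app M ≪≫ (singleFunctor B 0).mapIso e⟩⟩
  · exact inferInstanceAs (((singleFunctor A 0).obj M).IsGE 0)
  · exact inferInstanceAs (((singleFunctor A 0).obj M).IsLE 0)

end Ab

end K579.BddEquiv
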