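import Groth.Agent.SiteCmp.K579.EpsSh
import Groth.Agent.CohtopA.OverShriek
import Mathlib.CategoryTheory.Sites.DenseSubsite.SheafEquiv
import Mathlib.CategoryTheory.Sites.CoverLifting

/-!
# Restriction along `Over.map f` and its right adjoint, on abelian sheaves

* `res J f`: restriction `Sh(C/Y) ⥤ Sh(C/X)`; exact, with exact left adjoint.
* `pf J f`: its right adjoint (relocalisation pushforward).
* `unit_app_eq_zero_iff`: a section is killed by the unit iff it vanishes on all objects over `X`.
* `resEps`, `pfEps`: compatibility with `ε_*`.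
-/

set_option autoImplicit false
universe u
open CategoryTheory CategoryTheory.Limits Opposite

noncomputable section
namespace K579.OverMap

open Groth.Agent K579.EpsSh

variable {C : Type u} [SmallCategory C] (J : GrothendieckTopology C) {X Y : C} (f : X ⟶ Y)

/-- Restriction of abelian sheaves along `Over.map f`. -/
abbrev res : Sheaf (J.over Y) AddCommGrpCat.{u} ⥤ Sheaf (J.over X) AddCommGrpCat.{u} :=
  CohSite.push (J.over Y) (J.over X) (Over.map f)

/-- The right adjoint of restriction. -/
abbrev pf : Sheaf (J.over X) AddCommGrpCat.{u} ⥤ Sheaf (J.over Y) AddCommGrpCat.{u} :=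
  (Over.map f).sheafPushforwardCocontinuous AddCommGrpCat.{u} (J.over X) (J.over Y)

/-- The adjunction. -/
abbrev adj : res J f ⊣ pf J f :=
  (Over.map f).sheafAdjunctionCocontinuous AddCommGrpCat.{u} (J.over X) (J.over Y)

instance : PreservesFiniteColimits (res J f) := by
  have := (adj J f).leftAdjoint_preservesColimits
  infer_instance

/-- The left adjoint of restriction is exact. -/
theorem exists_leftAdjoint :
    ∃ (L : Sheaf (J.over X) AddCommGrpCat.{u} ⥤ Sheaf (J.over Y) AddCommGrpCat.{u}),
      Nonempty (L ⊣ res J f) ∧ PreservesFiniteLimits L := by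
  obtain ⟨L₀, ⟨adj₀⟩, h₀⟩ := CohtopA.OverShriek.exists_leftAdjoint (C := Over Y) (Over.mk f)
    AddCommGrpCat.{u} (J.over Y)
  have hd : (Over.mk f).iteratedSliceBackward.IsDenseSubsite (J.over X)
      ((J.over Y).over (Over.mk f)) :=
    inferInstanceAs ((Over.mk f).iteratedSliceEquiv.inverse.IsDenseSubsite (J.over _) _)
  let R : Sheaf ((J.over Y).over (Over.mk f)) AddCommGrpCat.{u} ⥤ Sheaf (J.over X) AddCommGrpCat.{u} :=
    (Over.mk f).iteratedSliceBackward.sheafPushforwardContinuous AddCommGrpCat.{u} (J.over X)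
      ((J.over Y).over (Over.mk f))
  have hR : R.IsEquivalence := inferInstanceAs
    ((Over.mk f).iteratedSliceBackward.sheafPushforwardContinuous AddCommGrpCat.{u} (J.over X)
      ((J.over Y).over (Over.mk f))).IsEquivalence
  have adj₁ : R.inv ⋙ L₀ ⊣ (J.over Y).overPullback AddCommGrpCat.{u} (Over.mk f) ⋙ R :=
    (R.asEquivalence.symm.toAdjunction).comp adj₀
  refine ⟨R.inv ⋙ L₀, ⟨adj₁⟩, comp_preservesFiniteLimits _ _⟩

instance : PreservesFiniteLimits (res J f) := by
  obtain ⟨L, ⟨a⟩, -⟩ := exists_leftAdjoint J f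
  have := a.rightAdjoint_preservesLimits
  infer_instance

lemma injective_res (I : Sheaf (J.over Y) AddCommGrpCat.{u}) (hI : Injective I) :
    Injective ((res J f).obj I) := by
  obtain ⟨L, ⟨a⟩, hL⟩ := exists_leftAdjoint J f
  have : L.PreservesMonomorphisms := inferInstance
  exact Injective.injective_of_adjoint a I

lemma isKInjective_res (I : CochainComplex (Sheaf (J.over Y) AddCommGrpCat.{u}) ℤ)
    (hI : I.IsKInjective) :
    CochainComplex.IsKInjective (((res J f).mapHomologicalComplex (.up ℤ)).obj I) := by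
  obtain ⟨L, ⟨a⟩, hL⟩ := exists_leftAdjoint J f
  have : PreservesFiniteColimits L := by
    have := a.leftAdjoint_preservesColimits
    infer_instance
  have : L.Additive := a.left_adjoint_additive
  exact S0481.aux (res J f) L a I hI

instance additive_pf : (pf J f).Additive := (adj J f).right_adjoint_additive

instance : PreservesFiniteLimits (pf J f) := by
  have := (adj J f).rightAdjoint_preservesLimits
  infer_instance

lemma isKInjective_pf (I : CochainComplex (Sheaf (J.over X) AddCommGrpCat.{u}) ℤ)
    (hI : I.IsKInjective) :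
    CochainComplex.IsKInjective (((pf J f).mapHomologicalComplex (.up ℤ)).obj I) :=
  S0481.aux (pf J f) (res J f) (adj J f) I hI

/-- `f_* f^*`. -/
abbrev mon : Sheaf (J.over Y) AddCommGrpCat.{u} ⥤ Sheaf (J.over Y) AddCommGrpCat.{u} :=
  res J f ⋙ pf J f

instance : (mon J f).Additive := inferInstance

lemma isKInjective_mon (I : CochainComplex (Sheaf (J.over Y) AddCommGrpCat.{u}) ℤ)
    (hI : I.IsKInjective) :
    CochainComplex.IsKInjective (((mon J f).mapHomologicalComplex (.up ℤ)).obj I) :=
  isKInjective_pf J f _ (isKInjective_res J f I hI)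

section unit

variable {D E : Type u} [SmallCategory D] [SmallCategory E] (G : D ⥤ E)
  (P : Eᵒᵖ ⥤ AddCommGrpCat.{u})

/-- A section of `P` is killed by the unit `P ⟶ ran (G^* P)` iff its restrictions to all objects
`G d ⟶ e` vanish. -/
theorem ran_unit_eq_zero_iff (e : E) (s : P.obj (op e)) :
    ((G.op.ranAdjunction AddCommGrpCat.{u}).unit.app P).app (op e) s = 0 ↔
      ∀ (d : D) (g : G.obj d ⟶ e), P.map g.op s = 0 := by
  have tri : ∀ d : D, ((G.op.ranAdjunction AddCommGrpCat.{u}).unit.app P).app (op (G.obj d)) ≫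
      ((G.op.ranAdjunction AddCommGrpCat.{u}).counit.app (G.op ⋙ P)).app (op d) =
      𝟙 (P.obj (op (G.obj d))) := fun d =>
    NatTrans.congr_app ((G.op.ranAdjunction AddCommGrpCat.{u}).left_triangle_components P) (op d)
  have key : ∀ (d : D) (g : G.obj d ⟶ e),
      ((G.op.ranAdjunction AddCommGrpCat.{u}).unit.app P).app (op e) ≫
      (G.op.ran.obj (G.op ⋙ P)).map g.op ≫
      ((G.op.ranAdjunction AddCommGrpCat.{u}).counit.app (G.op ⋙ P)).app (op d) =
      P.map g.op := by
    intro d g
    have h1 := ((G.op.ranAdjunction AddCommGrpCat.{u}).unit.app P).naturality g.op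
    refine (Category.assoc _ _ _).symm.trans ?_
    refine (congrArg (fun z => z ≫ _) h1.symm).trans ?_
    refine (Category.assoc _ _ _).trans ?_
    refine (congrArg (fun z => P.map g.op ≫ z) (tri d)).trans ?_
    exact Category.comp_id _
  constructor
  · intro hs d g
    have h1 := ConcreteCategory.congr_hom (key d g) s
    refine h1.symm.trans ?_
    change ((G.op.ranAdjunction AddCommGrpCat.{u}).counit.app (G.op ⋙ P)).app (op d)
      ((G.op.ran.obj (G.op ⋙ P)).map g.op
        (((G.op.ranAdjunction AddCommGrpCat.{u}).unit.app P).app (op e) s)) = 0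
    rw [hs, map_zero, map_zero]
  · intro hs
    have hl := G.op.isPointwiseRightKanExtensionRanCounit (G.op ⋙ P) (op e)
    refine Concrete.isLimit_ext _ hl _ _ ?_
    intro j
    have h1 := ConcreteCategory.congr_hom (key (unop j.right) (unop (j.hom))) s
    refine (h1.trans (hs _ _)).trans ?_
    exact (map_zero (((Functor.RightExtension.mk (G.op.ran.obj (G.op ⋙ P))
      (G.op.ranCounit.app (G.op ⋙ P))).coneAt (op e)).π.app j).hom).symm

end unit

/-- A section is killed by the unit iff it vanishes on all objects over `X`. -/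
theorem unit_app_eq_zero_iff (F : Sheaf (J.over Y) AddCommGrpCat.{u}) (V : Over Y)
    (s : F.obj.obj (op V)) :
    ((adj J f).unit.app F).hom.app (op V) s = 0 ↔
      ∀ (W : Over X) (g : (Over.map f).obj W ⟶ V), F.obj.map g.op s = 0 := by
  rw [← ran_unit_eq_zero_iff (Over.map f) F.obj V s, Functor.sheafAdjunctionCocontinuous_unit_app_hom]
  rfl

/-- If `f` is a covering then the unit `F ⟶ f_* f^* F` is a monomorphism. -/
theorem mono_unit_of_cover
    (hf : Sieve.ofArrows (fun _ : PUnit.{u + 1} => X) (fun _ => f) ∈ J Y)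
    (F : Sheaf (J.over Y) AddCommGrpCat.{u}) : Mono ((adj J f).unit.app F) := by
  have h1 : Mono ((adj J f).unit.app F).hom := by
    have h2 : ∀ V, Mono (((adj J f).unit.app F).hom.app V) := by
      rintro ⟨V⟩
      rw [AddCommGrpCat.mono_iff_injective, injective_iff_map_eq_zero]
      intro s hs
      have h3 := (unit_app_eq_zero_iff J f F V s).1 hs
      -- the sieve of maps to `V` which factor through `X` over `Y`
      let S : Sieve V := (Sieve.overEquiv V).symm
        ((Sieve.ofArrows (fun _ : PUnit.{u + 1} => X) (fun _ => f)).pullback V.hom)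
      have hS : S ∈ (J.over Y) V := by
        rw [GrothendieckTopology.mem_over_iff, OrderIso.apply_symm_apply]
        exact J.pullback_stable V.hom hf
      have hsep := ((isSheaf_iff_isSheaf_of_type _ _).1
        ((sheafCompose (J.over Y) (forget AddCommGrpCat.{u})).obj F).property).isSeparated S hS
      refine hsep.ext ?_
      intro W g hg
      have hg' : (Sieve.ofArrows (fun _ : PUnit.{u + 1} => X) (fun _ => f)).arrows
          (g.left ≫ V.hom) := (Sieve.overEquiv_symm_iff _ g).1 hg
      rw [Sieve.mem_ofArrows_iff] at hg'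
      obtain ⟨-, a, ha⟩ := hg'
      have h4 := h3 (Over.mk a) (Over.homMk g.left ha : (Over.map f).obj (Over.mk a) ⟶ V)
      have h5 : F.obj.map g.op s = 0 := by
        have ha' : a ≫ f = W.hom := by rw [← Over.w g]; exact ha.symm
        let i : W ⟶ (Over.map f).obj (Over.mk a) := Over.homMk (𝟙 _) (by
          change 𝟙 _ ≫ a ≫ f = W.hom
          rw [Category.id_comp, ha'])
        have h6 : g = i ≫ (Over.homMk g.left ha : (Over.map f).obj (Over.mk a) ⟶ V) := by
          ext
          exact (Category.id_comp _).symm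
        rw [h6, op_comp, F.obj.map_comp]
        change F.obj.map i.op (F.obj.map _ s) = 0
        rw [h4, map_zero]
      exact h5.trans (map_zero (F.obj.map g.op).hom).symm
    exact NatTrans.mono_of_mono_app _
  exact (sheafToPresheaf (J.over Y) AddCommGrpCat.{u}).mono_of_mono_map h1

section eps

variable {J} {J' : GrothendieckTopology C} (h : J' ≤ J)

/-- `ε_*` commutes with restriction. -/
def resEps : SiteCmp.epsSh (SiteCmp.over_le h Y) AddCommGrpCat.{u} ⋙ res J' f ≅
    res J f ⋙ SiteCmp.epsSh (SiteCmp.over_le h X) AddCommGrpCat.{u} := Iso.refl _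

/-- `ε_*` commutes with `f_*`. -/
def pfEps : SiteCmp.epsSh (SiteCmp.over_le h X) AddCommGrpCat.{u} ⋙ pf J' f ≅
    pf J f ⋙ SiteCmp.epsSh (SiteCmp.over_le h Y) AddCommGrpCat.{u} := Iso.refl _

/-- `ε_*` commutes with `f_* f^*`. -/
def theta : SiteCmp.epsSh (SiteCmp.over_le h Y) AddCommGrpCat.{u} ⋙ mon J' f ≅
    mon J f ⋙ SiteCmp.epsSh (SiteCmp.over_le h Y) AddCommGrpCat.{u} := Iso.refl _

lemma theta_comp (F : Sheaf (J.over Y) AddCommGrpCat.{u}) :
    (adj J' f).unit.app ((SiteCmp.epsSh (SiteCmp.over_le h Y) AddCommGrpCat.{u}).obj F) ≫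
      (theta f h).hom.app F =
    (SiteCmp.epsSh (SiteCmp.over_le h Y) AddCommGrpCat.{u}).map ((adj J f).unit.app F) := by
  refine (Category.comp_id _).trans ?_
  apply ObjectProperty.hom_ext
  have h1 := (Over.map f).sheafAdjunctionCocontinuous_unit_app_hom AddCommGrpCat.{u} (J.over X) (J.over Y) F
  have h2 := (Over.map f).sheafAdjunctionCocontinuous_unit_app_hom AddCommGrpCat.{u} (J'.over X) (J'.over Y)
    ((SiteCmp.epsSh (SiteCmp.over_le h Y) AddCommGrpCat.{u}).obj F)
  exact h2.trans h1.symm

end eps

end K579.OverMap
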