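import Groth.Agent.SiteCmp.K579.Abs2
import Groth.Agent.SiteCmp.K579.OverMap
import Groth.Agent.Sga4h.RDExact
import Groth.Agent.Sga4h.FunLES
import Mathlib.CategoryTheory.Sites.LocallyInjective
import Mathlib.CategoryTheory.Sites.LocallyBijective

/-!
# Vanishing of `R^i ε_*` in a comparison situation

* `isZero_inv_rightDerived`: `ε⁻¹ R^{n+1} ε_* F = 0`.
* `locally_zero`: sections of a `J'`-sheaf `Φ` with `ε⁻¹ Φ = 0` vanish `J`-locally.
* `resRightDerivedIso`: `R^i ε_{X} (F|_X) ≅ (R^i ε_{Y} F)|_X`.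
* `van`: the vanishing theorem.
-/

set_option autoImplicit false
universe u
open CategoryTheory CategoryTheory.Limits Opposite

noncomputable section
namespace K579.Van

open Groth.Agent K579.EpsSh K579.OverMap

section

variable {C : Type u} [SmallCategory C] {J J' : GrothendieckTopology C} (h : J' ≤ J)

/-- `ε⁻¹ R^{n+1} ε_* F = 0`. -/
theorem isZero_inv_rightDerived (F : Sheaf J AddCommGrpCat.{u}) (n : ℕ) :
    IsZero ((SiteCmp.epsShInv h AddCommGrpCat.{u}).obj
      (((SiteCmp.epsSh h AddCommGrpCat.{u}).rightDerived (n + 1)).obj F)) := by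
  have e := Sga4h.RDExact.postIso (SiteCmp.epsSh h AddCommGrpCat.{u}) (SiteCmp.epsShInv h AddCommGrpCat.{u})
    (n + 1)
  have e₂ := Sga4h.RDExact.congrIso (F := SiteCmp.epsSh h AddCommGrpCat.{u} ⋙ SiteCmp.epsShInv h AddCommGrpCat.{u})
    (G := 𝟭 _) (asIso (SiteCmp.epsShAdj h AddCommGrpCat.{u}).counit) (n + 1)
  exact (Sga4h.FunLES.isZero_rightDerived_of_exact (𝟭 (Sheaf J AddCommGrpCat.{u})) F n).of_iso
    ((e.app F).symm ≪≫ e₂.app F)

/-- Sections of a `J'`-sheaf killed by `ε⁻¹` vanish locally for `J`. -/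
theorem locally_zero (Φ : Sheaf J' AddCommGrpCat.{u})
    (hΦ : IsZero ((SiteCmp.epsShInv h AddCommGrpCat.{u}).obj Φ)) (U : C) (s : Φ.obj.obj (op U)) :
    ∃ S ∈ J U, ∀ ⦃V : C⦄ (g : V ⟶ U), S.arrows g → Φ.obj.map g.op s = 0 := by
  let G : Sheaf J AddCommGrpCat.{u} := (presheafToSheaf J AddCommGrpCat.{u}).obj Φ.obj
  let t : Φ ⟶ (SiteCmp.epsSh h AddCommGrpCat.{u}).obj G :=
    ⟨{ app := fun V => (toSheafify J Φ.obj).app V, naturality := fun V W g =>
      (toSheafify J Φ.obj).naturality g }⟩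
  have ht : t = 0 := by
    apply ((SiteCmp.epsShAdj h AddCommGrpCat.{u}).homEquiv Φ G).symm.injective
    exact hΦ.eq_of_src _ _
  have h1 : ∀ V, (toSheafify J Φ.obj).app V = 0 := fun V =>
    congrArg (fun z : Φ ⟶ (SiteCmp.epsSh h AddCommGrpCat.{u}).obj G => z.hom.app V) ht
  refine ⟨Presheaf.equalizerSieve (F := Φ.obj) s 0, Presheaf.equalizerSieve_mem J (toSheafify J Φ.obj) _ _ ?_,
    fun V g hg => ?_⟩
  · rw [h1]
    rfl
  · exact (hg : _).trans (map_zero (Φ.obj.map g.op).hom)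

end

section

variable {C : Type u} [SmallCategory C] {J J' : GrothendieckTopology C} (h : J' ≤ J) {X Y : C}
  (f : X ⟶ Y)

/-- `R^i ε_* (F|_X) ≅ (R^i ε_* F)|_X`. -/
def resRightDerivedIso (n : ℕ) (F : Sheaf (J.over Y) AddCommGrpCat.{u}) :
    ((SiteCmp.epsSh (SiteCmp.over_le h X) AddCommGrpCat.{u}).rightDerived n).obj ((res J f).obj F) ≅
      (res J' f).obj (((SiteCmp.epsSh (SiteCmp.over_le h Y) AddCommGrpCat.{u}).rightDerived n).obj F) :=
  (Sga4h.RDExact.preIso (res J f) (SiteCmp.epsSh (SiteCmp.over_le h X) AddCommGrpCat.{u})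
    (injective_res J f) n).symm.app F ≪≫
  (Sga4h.RDExact.congrIso (resEps f h).symm n).app F ≪≫
  (Sga4h.RDExact.postIso (SiteCmp.epsSh (SiteCmp.over_le h Y) AddCommGrpCat.{u}) (res J' f) n).app F

end

section

variable {C : Type u} [SmallCategory C] (J' : GrothendieckTopology C) {X V W : C}
  (g : V ⟶ X) (w : W ⟶ V)

/-- If the unit for `w` is a monomorphism on `Φ|_V` then sections of `Φ` over `V` vanishing on `W` are zero. -/
theorem eq_zero_of_mono (Φ : Sheaf (J'.over X) AddCommGrpCat.{u})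
    (hm : Mono ((adj J' w).unit.app ((res J' g).obj Φ))) (s : Φ.obj.obj (op (Over.mk g)))
    (hs : Φ.obj.map (Over.homMk w : Over.mk (w ≫ g) ⟶ Over.mk g).op s = 0) : s = 0 := by
  let i : (Over.map g).obj (Over.mk (𝟙 V)) ⟶ Over.mk g := Over.homMk (𝟙 V)
  let j : Over.mk g ⟶ (Over.map g).obj (Over.mk (𝟙 V)) := Over.homMk (𝟙 V) (by
    exact (Category.id_comp _).trans (Category.id_comp _))
  have hji : j ≫ i = 𝟙 _ := by
    ext
    exact Category.comp_id _
  have h1 : Mono (((adj J' w).unit.app ((res J' g).obj Φ)).hom.app (op (Over.mk (𝟙 V)))) := by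
    have h2 : Mono ((adj J' w).unit.app ((res J' g).obj Φ)).hom :=
      inferInstanceAs (Mono ((sheafToPresheaf (J'.over V) AddCommGrpCat.{u}).map
        ((adj J' w).unit.app ((res J' g).obj Φ))))
    infer_instance
  rw [AddCommGrpCat.mono_iff_injective, injective_iff_map_eq_zero] at h1
  have h3 : Φ.obj.map i.op s = 0 := by
    apply h1 (Φ.obj.map i.op s)
    rw [unit_app_eq_zero_iff]
    intro U k
    change Φ.obj.map ((Over.map g).map k).op (Φ.obj.map i.op s) = 0
    rw [← ConcreteCategory.comp_apply, ← Φ.obj.map_comp, ← op_comp]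
    let l : (Over.map g).obj ((Over.map w).obj U) ⟶ Over.mk (w ≫ g) := Over.homMk U.hom (by
      simp)
    have h4 : (Over.map g).map k ≫ i = l ≫ (Over.homMk w : Over.mk (w ≫ g) ⟶ Over.mk g) := by
      ext
      have := Over.w k
      simpa [i, l] using this
    rw [h4, op_comp, Φ.obj.map_comp, ConcreteCategory.comp_apply, hs, map_zero]
  have h5 : Φ.obj.map j.op (Φ.obj.map i.op s) = s := by
    rw [← ConcreteCategory.comp_apply, ← Φ.obj.map_comp, ← op_comp, hji]
    simp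
  rw [← h5, h3, map_zero]

/-- Separatedness for the coarse topology, written over the base. -/
theorem eq_zero_of_cover (Φ : Sheaf (J'.over X) AddCommGrpCat.{u}) {ι : Type u} (Vi : ι → C)
    (v : ∀ i, Vi i ⟶ V) (hv : Sieve.ofArrows Vi v ∈ J' V) (s : Φ.obj.obj (op (Over.mk g)))
    (hs : ∀ i, Φ.obj.map (Over.homMk (v i) : Over.mk (v i ≫ g) ⟶ Over.mk g).op s = 0) : s = 0 := by
  let S : Sieve (Over.mk g) := (Sieve.overEquiv (Over.mk g)).symm (Sieve.ofArrows Vi v)
  have hS : S ∈ (J'.over X) (Over.mk g) := by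
    rw [GrothendieckTopology.mem_over_iff, OrderIso.apply_symm_apply]
    exact hv
  have hsep := ((isSheaf_iff_isSheaf_of_type _ _).1
    ((sheafCompose (J'.over X) (forget AddCommGrpCat.{u})).obj Φ).property).isSeparated S hS
  refine hsep.ext ?_
  intro W k hk
  have hk' : (Sieve.ofArrows Vi v).arrows k.left := (Sieve.overEquiv_symm_iff _ k).1 hk
  rw [Sieve.mem_ofArrows_iff] at hk'
  obtain ⟨i, a, ha⟩ := hk'
  have h5 : Φ.obj.map k.op s = 0 := by
    let l : W ⟶ Over.mk (v i ≫ g) := Over.homMk a (by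
      have := Over.w k
      change a ≫ v i ≫ g = W.hom
      rw [← this, ← Category.assoc, ← ha]
      rfl)
    have h6 : k = l ≫ (Over.homMk (v i) : Over.mk (v i ≫ g) ⟶ Over.mk g) := by
      ext
      exact ha
    rw [h6, op_comp, Φ.obj.map_comp, ConcreteCategory.comp_apply, hs, map_zero]
  exact h5.trans (map_zero (Φ.obj.map k.op).hom).symm

end

section

variable {C : Type u} [SmallCategory C] {J J' : GrothendieckTopology C} (h : J' ≤ J)
    (P : MorphismProperty C)
    (A' : ∀ X : C, ObjectProperty (Sheaf (J'.over X) AddCommGrpCat.{u})) [∀ X : C, WSerre.IsWeakSerre (A' X)]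
    (h2 : ∀ ⦃X Y : C⦄ (f : X ⟶ Y) (F' : Sheaf (J'.over Y) AddCommGrpCat.{u}), A' Y F' →
      A' X ((CohSite.push (J'.over Y) (J'.over X) (Over.map f)).obj F'))
    (h3 : ∀ (X : C) (F' : Sheaf (J'.over X) AddCommGrpCat.{u}), A' X F' → Presheaf.IsSheaf (J.over X) F'.obj)
    (h4 : ∀ ⦃X Y : C⦄ (f : X ⟶ Y)
      [((Over.map f).sheafPushforwardCocontinuous AddCommGrpCat.{u} (J'.over X) (J'.over Y)).Additive],
      P f → ∀ (F' : Sheaf (J'.over X) AddCommGrpCat.{u}), A' X F' → ∀ i : ℕ,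
        A' Y ((((Over.map f).sheafPushforwardCocontinuous AddCommGrpCat.{u} (J'.over X) (J'.over Y)).rightDerived i).obj F'))
    (h5 : ∀ (U : C) (S : Sieve U), S ∈ J U → ∃ (ι : Type u) (V : ι → C) (v : ∀ j, V j ⟶ U),
      Sieve.ofArrows V v ∈ J' U ∧ ∀ j, ∃ (W : C) (w : W ⟶ V j), P w ∧
        Sieve.ofArrows (fun _ : PUnit.{u + 1} => W) (fun _ => w) ∈ J (V j) ∧
        ∃ (κ : Type u) (Wk : κ → C) (wk : ∀ k, Wk k ⟶ W), Sieve.ofArrows Wk wk ∈ J' W ∧
          ∀ k, S.arrows (wk k ≫ w ≫ v j))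

include h2 h3 h4 in
/-- The key monomorphism: for a covering `w : W ⟶ V` in `P`, the unit is mono on `R^{n+1} ε_* F`. -/
theorem mono_unit_rightDerived (n : ℕ) (V : C)
    (hn : ∀ (F : Sheaf (J.over V) AddCommGrpCat.{u}),
      A' V ((SiteCmp.epsSh (SiteCmp.over_le h V) AddCommGrpCat.{u}).obj F) →
      ∀ i : ℕ, 1 ≤ i → i ≤ n →
      IsZero (((SiteCmp.epsSh (SiteCmp.over_le h V) AddCommGrpCat.{u}).rightDerived i).obj F))
    {W : C} (w : W ⟶ V) (hw : P w)
    (hcov : Sieve.ofArrows (fun _ : PUnit.{u + 1} => W) (fun _ => w) ∈ J V)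
    (F : Sheaf (J.over V) AddCommGrpCat.{u})
    (hF : A' V ((SiteCmp.epsSh (SiteCmp.over_le h V) AddCommGrpCat.{u}).obj F)) :
    Mono ((adj J' w).unit.app
      (((SiteCmp.epsSh (SiteCmp.over_le h V) AddCommGrpCat.{u}).rightDerived (n + 1)).obj F)) := by
  have hA : ∀ F, A' V F → IsIso ((SiteCmp.epsShAdj (SiteCmp.over_le h V) AddCommGrpCat.{u}).unit.app F) :=
    fun F hF => isIso_unit_of_isSheaf (SiteCmp.over_le h V) F (h3 V F hF)
  refine Abs2.mono_unit (SiteCmp.epsShAdj (SiteCmp.over_le h V) AddCommGrpCat.{u}) (A' V) hA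
    (mon J' w) (adj J' w).unit (mon J w) (adj J w).unit (theta w h) (fun X => theta_comp w h X)
    (fun I hI => isKInjective_mon J w I hI) (fun X => mono_unit_of_cover J w hcov X)
    (fun F hF i => ?_) n (fun F hF i hi hi' => ?_) F hF
  · refine (A' V).prop_of_iso ((Sga4h.RDExact.preIso (res J' w) (pf J' w) (injective_res J' w) i).symm.app F) ?_
    exact h4 w hw _ (h2 w F hF) i
  · have : IsIso ((SiteCmp.epsShAdj (SiteCmp.over_le h V) AddCommGrpCat.{u}).unit.app F) := hA F hF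
    exact hn _ ((A' V).prop_of_iso (asIso ((SiteCmp.epsShAdj (SiteCmp.over_le h V) AddCommGrpCat.{u}).unit.app F))
      hF) i hi hi'

include h2 h3 h4 h5 in
/-- The vanishing of `R^i ε_* F` for `i ≥ 1` and `F ∈ A_X`. -/
theorem van (n : ℕ) : ∀ (X : C) (F : Sheaf (J.over X) AddCommGrpCat.{u}),
    A' X ((SiteCmp.epsSh (SiteCmp.over_le h X) AddCommGrpCat.{u}).obj F) → ∀ i : ℕ, 1 ≤ i → i ≤ n →
    IsZero (((SiteCmp.epsSh (SiteCmp.over_le h X) AddCommGrpCat.{u}).rightDerived i).obj F) := by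
  induction n with
  | zero => intro X F _ i h1 h2; omega
  | succ n hn =>
    intro X F hF i hi hi'
    obtain hlt | rfl := lt_or_eq_of_le hi'
    · exact hn X F hF i hi (by omega)
    clear hi hi'
    set Φ := ((SiteCmp.epsSh (SiteCmp.over_le h X) AddCommGrpCat.{u}).rightDerived (n + 1)).obj F with hΦ
    have hz : ∀ (U : Over X) (s : Φ.obj.obj (op U)), s = 0 := by
      intro U s
      obtain ⟨S, hS, hS'⟩ := locally_zero (SiteCmp.over_le h X) Φ
        (isZero_inv_rightDerived (SiteCmp.over_le h X) F n) U s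
      rw [GrothendieckTopology.mem_over_iff] at hS
      obtain ⟨ι, V, v, hv, hv'⟩ := h5 U.left (Sieve.overEquiv U S) hS
      refine eq_zero_of_cover J' U.hom Φ V v hv s fun j => ?_
      obtain ⟨W, w, hw, hw', κ, Wk, wk, hwk, hwk'⟩ := hv' j
      refine eq_zero_of_mono J' (v j ≫ U.hom) w Φ ?_ _ ?_
      · have hm := mono_unit_rightDerived h P A' h2 h3 h4 n (V j) (fun F hF => hn _ F hF) w hw hw'
          ((res J (v j ≫ U.hom)).obj F) (h2 (v j ≫ U.hom) _ hF)
        exact Abs2.mono_app_of_iso (mon J' w) (adj J' w).unit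
          (resRightDerivedIso h (v j ≫ U.hom) (n + 1) F) hm
      · refine eq_zero_of_cover J' (w ≫ v j ≫ U.hom) Φ Wk wk hwk _ fun k => ?_
        have h7 := hwk' k
        change Sieve.overEquiv U S (wk k ≫ w ≫ v j) at h7
        rw [Sieve.overEquiv_iff] at h7
        have h8 := hS' _ h7
        let l : Over.mk (wk k ≫ w ≫ v j ≫ U.hom) ⟶ Over.mk ((wk k ≫ w ≫ v j) ≫ U.hom) :=
          Over.homMk (𝟙 _) (by simp)
        have h9 : (Over.homMk (wk k) : Over.mk (wk k ≫ w ≫ v j ≫ U.hom) ⟶ Over.mk (w ≫ v j ≫ U.hom)) ≫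
            (Over.homMk w : Over.mk (w ≫ v j ≫ U.hom) ⟶ Over.mk (v j ≫ U.hom)) ≫
            (Over.homMk (v j) : Over.mk (v j ≫ U.hom) ⟶ U) =
            l ≫ (Over.homMk (wk k ≫ w ≫ v j) : Over.mk ((wk k ≫ w ≫ v j) ≫ U.hom) ⟶ U) := by
          ext
          exact (Category.id_comp _).symm
        have h10 := congrArg (fun z => Φ.obj.map z.op s) h9
        simp only [op_comp, Φ.obj.map_comp, ConcreteCategory.comp_apply] at h10
        refine h10.trans ?_
        refine (congrArg (Φ.obj.map l.op) h8).trans ?_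
        exact map_zero (Φ.obj.map l.op).hom
    rw [IsZero.iff_id_eq_zero]
    apply ObjectProperty.hom_ext
    ext U s
    exact hz U.unop s

end

end K579.Van
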