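import Groth.Prelude.Def_WeakSerre
import Groth.Agent.Cohder.RDAcyc

/-!
# Inverse image of a weak Serre class under a fully faithful functor with exact left adjoint

* `isWeakSerre_inverseImage`
-/

set_option autoImplicit false
universe v u
open CategoryTheory CategoryTheory.Limits

noncomputable section
namespace K579.AbsSerre

open Groth.Agent

variable {T : Type u} [Category.{v} T] [Abelian T] {T' : Type u} [Category.{v} T'] [Abelian T']
  {ε : T ⥤ T'} {a : T' ⥤ T} (adj : a ⊣ ε) [ε.Additive] [a.Additive]
  [ε.Full] [ε.Faithful] [EnoughInjectives T] (A' : ObjectProperty T') [WSerre.IsWeakSerre A']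

include adj in
/-- If `ε` is fully faithful with an exact left adjoint, `A'` is a weak Serre class contained in the
essential image of `ε` and `R¹ε` vanishes on `ε⁻¹ A'`, then `ε⁻¹ A'` is a weak Serre class. -/
theorem isWeakSerre_inverseImage (hA : ∀ F, A' F → IsIso (adj.unit.app F))
    (h1 : ∀ F : T, A' (ε.obj F) → IsZero ((ε.rightDerived 1).obj F)) :
    WSerre.IsWeakSerre (A'.inverseImage ε) := by
  have := adj.rightAdjoint_preservesLimits
  have := adj.leftAdjoint_preservesColimits
  have hfl : PreservesFiniteLimits ε := inferInstance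
  have hz : (A'.inverseImage ε).ContainsZero := by
    obtain ⟨Z, hZ, hZ'⟩ := A'.exists_prop_of_containsZero
    open ZeroObject in
    exact ⟨⟨(0 : T), isZero_zero T, A'.prop_of_iso (hZ.iso (ε.map_isZero (isZero_zero T))) hZ'⟩⟩
  have hk : (A'.inverseImage ε).IsClosedUnderKernels := by
    constructor
    rintro _ ⟨f, k, hk, hf⟩
    exact A'.prop_of_isLimit_kernelFork (f := ε.map f) (k.mapIsLimit hk ε) hf.1 hf.2
  have hc : (A'.inverseImage ε).IsClosedUnderCokernels := by
    constructor
    rintro _ ⟨f, k, hk, hf⟩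
    have h2 : A' (cokernel (ε.map f)) := A'.prop_cokernel _ hf.1 hf.2
    have h3 := hA _ h2
    let e₁ : a.obj (cokernel (ε.map f)) ≅ cokernel (a.map (ε.map f)) := PreservesCokernel.iso a (ε.map f)
    let e₂ : cokernel (a.map (ε.map f)) ≅ cokernel f :=
      cokernel.mapIso _ _ (asIso (adj.counit.app _)) (asIso (adj.counit.app _)) (by simp)
    let e₃ : cokernel f ≅ k.pt := (cokernelIsCokernel f).coconePointUniqueUpToIso hk
    exact A'.prop_of_iso (asIso (adj.unit.app (cokernel (ε.map f))) ≪≫ ε.mapIso (e₁ ≪≫ e₂ ≪≫ e₃)) h2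
  have he : (A'.inverseImage ε).IsClosedUnderExtensions := by
    constructor
    intro S hS hS₁ hS₃
    exact A'.prop_X₂_of_shortExact (Cohder.RDAcyc.map_shortExact ε hS (h1 _ hS₁)) hS₁ hS₃
  exact {}

end K579.AbsSerre
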