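import Groth.Agent.SiteCmp.K579.Ev
import Groth.Agent.SiteCmp.K579.Van
import Groth.Agent.CohtopA.KillClass
import Groth.Agent.Cohder.RDLES

/-!
# Killing cohomology classes in a comparison situation

* `del`: the connecting map `Q(U) → H¹(U, F)` of `0 → F → I → Q → 0`.
* `kill_one`: the degree one case of S9075.
* `kill`: the general case.
-/

set_option autoImplicit false
universe u
open CategoryTheory CategoryTheory.Limits Opposite

noncomputable section
namespace K579.Kill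

open Groth.Agent K579.EpsSh K579.OverMap K579.Ev Abelian
open Groth.Agent.CohtopA.KillClass

section del

variable {C : Type u} [SmallCategory C] {J : GrothendieckTopology C}
  {S : ShortComplex (Sheaf J AddCommGrpCat.{u})} (hS : S.ShortExact)

/-- The connecting map `Q(U) → H¹(U, F)` of a short exact sequence `0 → F → I → Q → 0`. -/
def del (U : C) (z : S.X₃.obj.obj (op U)) : CohSite.HU S.X₁ 1 U :=
  (Ext.mk₀ ((homFree U S.X₃).symm z)).comp hS.extClass (zero_add 1)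

lemma del_res {U V : C} (f : V ⟶ U) (z : S.X₃.obj.obj (op U)) :
    CohSite.res S.X₁ 1 f (del hS U z) = del hS V (S.X₃.obj.map f.op z) := by
  refine (res_eq S.X₁ 1 f _).trans ?_
  unfold del
  have h1 : (freeFunctor J).map f ≫ (homFree U S.X₃).symm z =
      (homFree V S.X₃).symm (S.X₃.obj.map f.op z) := by
    apply (homFree V S.X₃).injective
    rw [homFree_map, Equiv.apply_symm_apply, Equiv.apply_symm_apply]
  rw [Ext.mk₀_comp_mk₀_assoc, h1]

lemma exists_del (hI : Injective S.X₂) (U : C) (θ : CohSite.HU S.X₁ 1 U) : ∃ z, del hS U z = θ := by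
  obtain ⟨x, hx⟩ := Ext.covariant_sequence_exact₁ ((freeFunctor J).obj U) hS θ
    (Ext.eq_zero_of_injective _) (n₀ := 0) rfl
  obtain ⟨g, rfl⟩ := (Ext.mk₀_bijective _ _).2 x
  refine ⟨homFree U S.X₃ g, ?_⟩
  unfold del
  rw [Equiv.symm_apply_apply]
  exact hx

lemma del_eq_zero_iff (U : C) (z : S.X₃.obj.obj (op U)) :
    del hS U z = 0 ↔ ∃ y : S.X₂.obj.obj (op U), S.g.hom.app (op U) y = z := by
  constructor
  · intro h0
    obtain ⟨x, hx⟩ := Ext.covariant_sequence_exact₃ ((freeFunctor J).obj U) hS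
      (Ext.mk₀ ((homFree U S.X₃).symm z)) (zero_add 1) h0
    obtain ⟨g, rfl⟩ := (Ext.mk₀_bijective _ _).2 x
    rw [Ext.mk₀_comp_mk₀] at hx
    have h1 := (Ext.mk₀_bijective _ _).1 hx
    refine ⟨homFree U S.X₂ g, ?_⟩
    rw [← homFree_comp, h1, Equiv.apply_symm_apply]
  · rintro ⟨y, rfl⟩
    have h1 : (homFree U S.X₃).symm (S.g.hom.app (op U) y) = (homFree U S.X₂).symm y ≫ S.g := by
      apply (homFree U S.X₃).injective
      rw [homFree_comp, Equiv.apply_symm_apply, Equiv.apply_symm_apply]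
    unfold del
    rw [h1, ← Ext.mk₀_comp_mk₀, Ext.comp_assoc _ _ _ (zero_add 0) (zero_add 1) (by omega),
      hS.comp_extClass, Ext.comp_zero]
    rfl

lemma res_comp (F : Sheaf J AddCommGrpCat.{u}) (n : ℕ) {U V W : C} (f : V ⟶ U) (g : W ⟶ V) (k : W ⟶ U)
    (hk : g ≫ f = k) (x : CohSite.HU F n U) :
    CohSite.res F n k x = CohSite.res F n g (CohSite.res F n f x) := by
  subst hk
  have h1 : (Sheaf.cohomologyPresheaf.{u} F n).map (g ≫ f).op =
      (Sheaf.cohomologyPresheaf.{u} F n).map f.op ≫ (Sheaf.cohomologyPresheaf.{u} F n).map g.op := by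
    rw [op_comp, Functor.map_comp]
  exact ConcreteCategory.congr_hom h1 x

lemma comp_extClass_injective {A : Type*} [Category* A] [Abelian A] [HasExt.{u} A] {S : ShortComplex A}
    (hS : S.ShortExact) (hI : Injective S.X₂) {X : A} (n : ℕ) {a b : Ext X S.X₃ (n + 1)}
    (h : a.comp hS.extClass (rfl : n + 1 + 1 = n + 2) = b.comp hS.extClass (rfl : n + 1 + 1 = n + 2)) : a = b := by
  have h4 : (hS.extClass.postcomp X (rfl : n + 1 + 1 = n + 2)) (a - b) = 0 := by
    rw [map_sub, sub_eq_zero]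
    exact h
  obtain ⟨y, hy⟩ := Ext.covariant_sequence_exact₃ _ hS _ (rfl : n + 1 + 1 = n + 2) h4
  rw [Ext.eq_zero_of_injective y, Ext.zero_comp] at hy
  exact (sub_eq_zero.1 hy.symm)

lemma comp_extClass_eq_zero {A : Type*} [Category* A] [Abelian A] [HasExt.{u} A] {S : ShortComplex A}
    (hS : S.ShortExact) {X : A} (n : ℕ) {a : Ext X S.X₃ (n + 1)} (h : a = 0) :
    a.comp hS.extClass (rfl : n + 1 + 1 = n + 2) = 0 := by
  rw [h, Ext.zero_comp]

/-- A section of `B` killed by `g` lifts locally along `f` if `A ⟶ B ⟶ D` is exact. -/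
lemma exists_cover_lift {A B D : Sheaf J AddCommGrpCat.{u}} (f : A ⟶ B) (g : B ⟶ D) (w : f ≫ g = 0)
    (hex : (ShortComplex.mk f g w).Exact) {U : C} (s : B.obj.obj (op U)) (hs : g.hom.app (op U) s = 0) :
    ∃ T : J.Cover U, ∀ a : T.Arrow, ∃ t : A.obj.obj (op a.Y), f.hom.app (op a.Y) t = B.obj.map a.f.op s := by
  have h1 : (homFree U B).symm s ≫ g = 0 := by
    apply (homFree U D).injective
    rw [homFree_comp, Equiv.apply_symm_apply, hs]
    have h2 := homFree_comp (0 : (freeFunctor J).obj U ⟶ B) g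
    rw [zero_comp] at h2
    have h3 := homFree_comp (0 : (freeFunctor J).obj U ⟶ B) (0 : B ⟶ D)
    rw [zero_comp] at h3
    exact h3.symm
  have h4 : Epi (kernel.lift g f w) := hex.epi_kernelLift
  obtain ⟨T, hT⟩ := exists_cover_factor (kernel.lift g f w) (kernel.lift g _ h1)
  refine ⟨T, fun a => ?_⟩
  obtain ⟨k, hk⟩ := hT a
  refine ⟨homFree a.Y A k, ?_⟩
  have h5 := congrArg (fun z => z ≫ kernel.ι g) hk
  simp only [Category.assoc, kernel.lift_ι] at h5
  rw [← homFree_comp, ← h5, homFree_map, Equiv.apply_symm_apply]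

end del

section one

variable {C : Type u} [SmallCategory C] {J J' : GrothendieckTopology C} {X Y : C} (f : X ⟶ Y)

/-- Degree one: a class on `X` whose two pullbacks to `X ×_Y X` agree dies on `Y_i ×_Y X` for a covering
`{Y_i ⟶ Y}` of the coarse topology, if `R¹ f_* f^* F` is a sheaf for the fine topology. -/
theorem kill_one
    (hcov : Sieve.ofArrows (fun _ : PUnit.{u + 1} => X) (fun _ => f) ∈ J Y)
    (hpb : ∀ ⦃Y' : C⦄ (g : Y' ⟶ Y), ∃ (W : C) (p : W ⟶ Y') (q : W ⟶ X), IsPullback p q g f)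
    (S : ShortComplex (Sheaf (J'.over Y) AddCommGrpCat.{u})) (hS : S.ShortExact) (hI : Injective S.X₂)
    {R1 : Sheaf (J'.over Y) AddCommGrpCat.{u}} (δ : (mon J' f).obj S.X₃ ⟶ R1)
    (w : (mon J' f).map S.g ≫ δ = 0) (hex : (ShortComplex.mk _ δ w).Exact)
    (hR1 : Presheaf.IsSheaf (J.over Y) R1.obj)
    (θ : CohSite.HU S.X₁ 1 (Over.mk f))
    (hθ : ∀ (W : C) (p q : W ⟶ X) (hW : IsPullback p q f f),
      CohSite.res S.X₁ 1 (Over.homMk p rfl : Over.mk (p ≫ f) ⟶ Over.mk f) θ =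
        CohSite.res S.X₁ 1 (Over.homMk q hW.w.symm : Over.mk (p ≫ f) ⟶ Over.mk f) θ) :
    ∃ (ι : Type u) (Z : ι → C) (g : ∀ i, Z i ⟶ Y), Sieve.ofArrows Z g ∈ J' Y ∧
      ∀ (i : ι) (W : C) (p : W ⟶ Z i) (q : W ⟶ X), IsPullback p q (g i) f →
        CohSite.res S.X₁ 1 (Over.homMk q rfl : Over.mk (q ≫ f) ⟶ Over.mk f) θ = 0 := by
  obtain ⟨z, hz⟩ := exists_del hS hI (Over.mk f) θ
  obtain ⟨ζ, hζ⟩ := exists_section J' f S.X₃ z
  -- restrictions of `ζ` which lift to the injective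
  have lift_of : ∀ (V : Over Y) (W : C) (p : W ⟶ V.left) (q : W ⟶ X) (hpq : IsPullback p q V.hom f),
      CohSite.res S.X₁ 1 (Over.homMk q rfl : Over.mk (q ≫ f) ⟶ Over.mk f) θ = 0 →
      ∃ η : ((mon J' f).obj S.X₂).obj.obj (op V), ((mon J' f).map S.g).hom.app (op V) η =
        ((mon J' f).obj S.X₃).obj.map (Over.homMk V.hom : V ⟶ Over.mk (𝟙 Y)).op ζ := by
    intro V W p q hpq h0
    rw [← hz, del_res, del_eq_zero_iff] at h0
    obtain ⟨y, hy⟩ := h0
    obtain ⟨η, hη⟩ := (ev_bijective J' f ((res J' f).obj S.X₂) p q hpq).2 y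
    refine ⟨η, ?_⟩
    apply (ev_bijective J' f ((res J' f).obj S.X₃) p q hpq).1
    rw [hζ V (Over.mk q) (Over.homMk p hpq.w)]
    have h1 := ev_naturality J' f ((res J' f).map S.g) (V := V) (W := Over.mk q) (Over.homMk p hpq.w) η
    refine h1.trans ?_
    rw [hη]
    exact hy
  -- the image of `ζ` vanishes over every `V ⟶ X` on which `θ` vanishes
  have zero_of : ∀ (V : Over Y) (t : V ⟶ Over.mk f) (ht : CohSite.res S.X₁ 1 t θ = 0)
      (k : V ⟶ Over.mk (𝟙 Y)), R1.obj.map k.op (δ.hom.app (op (Over.mk (𝟙 Y))) ζ) = 0 := by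
    intro V t ht k
    obtain ⟨W, p, q, hpq⟩ := hpb V.hom
    obtain ⟨W₀, p₀, q₀, h₀⟩ := hpb f
    have ht' : t.left ≫ f = V.hom := Over.w t
    let m : W ⟶ W₀ := h₀.lift (p ≫ t.left) q (by rw [Category.assoc, ht', hpq.w])
    have hm₁ : m ≫ p₀ = p ≫ t.left := h₀.lift_fst _ _ _
    have hm₂ : m ≫ q₀ = q := h₀.lift_snd _ _ _
    let m' : Over.mk (q ≫ f) ⟶ Over.mk (p₀ ≫ f) := Over.homMk m (by
      change m ≫ p₀ ≫ f = q ≫ f
      rw [h₀.w, ← Category.assoc, hm₂])
    have h1 : CohSite.res S.X₁ 1 (Over.homMk q rfl : Over.mk (q ≫ f) ⟶ Over.mk f) θ = 0 := by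
      rw [res_comp S.X₁ 1 (Over.homMk q₀ h₀.w.symm : Over.mk (p₀ ≫ f) ⟶ Over.mk f) m'
        (Over.homMk q rfl : Over.mk (q ≫ f) ⟶ Over.mk f) (by ext; exact hm₂), ← hθ W₀ p₀ q₀ h₀,
        ← res_comp S.X₁ 1 (Over.homMk p₀ rfl : Over.mk (p₀ ≫ f) ⟶ Over.mk f) m' _ rfl,
        res_comp S.X₁ 1 t (Over.homMk p hpq.w : Over.mk (q ≫ f) ⟶ V) _ (by ext; exact hm₁.symm), ht,
        map_zero]
    obtain ⟨η, hη⟩ := lift_of V W p q hpq h1
    have h2 := ConcreteCategory.congr_hom (δ.hom.naturality k.op) ζ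
    refine h2.symm.trans ?_
    have h3 : k = Over.homMk V.hom := Over.mkIdTerminal.hom_ext _ _
    rw [h3]
    refine (congrArg (δ.hom.app (op V)) hη.symm).trans ?_
    have h4 := ConcreteCategory.congr_hom (congrArg (fun z => z.hom.app (op V)) w) η
    exact h4
  have claimA : R1.obj.map (Over.homMk f : Over.mk (f ≫ 𝟙 Y) ⟶ Over.mk (𝟙 Y)).op
      (δ.hom.app (op (Over.mk (𝟙 Y))) ζ) = 0 := by
    obtain ⟨T, hT⟩ := exists_cover_res_eq_zero S.X₁ (Over.mk f) 0 θ
    let i : Over.mk (f ≫ 𝟙 Y) ⟶ Over.mk f := Over.homMk (𝟙 X)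
    have hsep := ((isSheaf_iff_isSheaf_of_type _ _).1
      ((sheafCompose (J'.over Y) (forget AddCommGrpCat.{u})).obj R1).property).isSeparated _
        ((J'.over Y).pullback_stable i T.2)
    refine hsep.ext ?_
    intro V g hg
    refine Eq.trans ?_ (map_zero (R1.obj.map g.op).hom).symm
    have h1 := zero_of V (g ≫ i) (hT ⟨_, _, hg⟩) (g ≫ (Over.homMk f : Over.mk (f ≫ 𝟙 Y) ⟶ Over.mk (𝟙 Y)))
    rw [op_comp, R1.obj.map_comp, ConcreteCategory.comp_apply] at h1
    exact h1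
  have claimB : δ.hom.app (op (Over.mk (𝟙 Y))) ζ = 0 := by
    let R1' : Sheaf (J.over Y) AddCommGrpCat.{u} := ⟨R1.obj, hR1⟩
    exact Van.eq_zero_of_cover J (𝟙 Y) R1' (fun _ : PUnit.{u + 1} => X) (fun _ => f) hcov _
      (fun _ => claimA)
  obtain ⟨T, hT⟩ := exists_cover_lift _ _ w hex ζ claimB
  refine ⟨Σ Z : C, {g : Z ⟶ Y // Sieve.overEquiv _ T.1 g}, fun i => i.1, fun i => i.2.1, ?_, ?_⟩
  · have h1 := T.2
    rw [GrothendieckTopology.mem_over_iff] at h1
    refine J'.superset_covering ?_ h1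
    intro Z g hg
    exact Sieve.ofArrows_mk _ _ (⟨Z, g, hg⟩ : Σ Z : C, {g : Z ⟶ Y // Sieve.overEquiv _ T.1 g})
  · rintro ⟨Z, g, hg⟩ W p q hpq
    have hg' := (Sieve.overEquiv_iff _ _).1 hg
    obtain ⟨t, ht⟩ := hT ⟨_, _, hg'⟩
    dsimp only at p hpq ht
    let V : Over Y := Over.mk (g ≫ 𝟙 Y)
    let k : (Over.map f).obj (Over.mk q) ⟶ V := Over.homMk p (by
      change p ≫ g ≫ 𝟙 Y = q ≫ f
      rw [Category.comp_id, hpq.w])
    have h1 := hζ V (Over.mk q) k
    have h2 : (Over.homMk V.hom : V ⟶ Over.mk (𝟙 Y)) = Over.homMk g := Over.mkIdTerminal.hom_ext _ _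
    rw [h2] at h1
    have h3 := (congrArg (ev J' f ((res J' f).obj S.X₃) k) ht).trans h1
    rw [← hz, del_res, del_eq_zero_iff]
    refine ⟨ev J' f ((res J' f).obj S.X₂) k t, ?_⟩
    refine Eq.trans ?_ h3
    exact (ev_naturality J' f ((res J' f).map S.g) k t).symm

/-- The general case, by dimension shifting. -/
theorem kill
    (hcov : Sieve.ofArrows (fun _ : PUnit.{u + 1} => X) (fun _ => f) ∈ J Y)
    (hpb : ∀ ⦃Y' : C⦄ (g : Y' ⟶ Y), ∃ (W : C) (p : W ⟶ Y') (q : W ⟶ X), IsPullback p q g f)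
    (n : ℕ) : ∀ (F' : Sheaf (J'.over Y) AddCommGrpCat.{u})
    (_ : Presheaf.IsSheaf (J.over Y) (((mon J' f).rightDerived (n + 1)).obj F').obj)
    (θ : CohSite.HU F' (n + 1) (Over.mk f))
    (_ : ∀ (W : C) (p q : W ⟶ X) (hW : IsPullback p q f f),
      CohSite.res F' (n + 1) (Over.homMk p rfl : Over.mk (p ≫ f) ⟶ Over.mk f) θ =
        CohSite.res F' (n + 1) (Over.homMk q hW.w.symm : Over.mk (p ≫ f) ⟶ Over.mk f) θ),
    ∃ (ι : Type u) (Z : ι → C) (g : ∀ i, Z i ⟶ Y), Sieve.ofArrows Z g ∈ J' Y ∧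
      ∀ (i : ι) (W : C) (p : W ⟶ Z i) (q : W ⟶ X), IsPullback p q (g i) f →
        CohSite.res F' (n + 1) (Over.homMk q rfl : Over.mk (q ≫ f) ⟶ Over.mk f) θ = 0 := by
  have hfl : PreservesFiniteLimits (mon J' f) := comp_preservesFiniteLimits _ _
  induction n with
  | zero =>
    intro F' hR θ hθ
    let I : InjectivePresentation F' := Classical.arbitrary _
    let S := ShortComplex.mk _ _ (cokernel.condition I.f)
    have hI : Injective S.X₂ := I.injective
    have hS : S.ShortExact := { exact := ShortComplex.exact_cokernel I.f }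
    obtain ⟨-, -, δ, hδ⟩ := Cohder.RDLES.exists_les (mon J' f) hS
    obtain ⟨w₁, -, h₁, -⟩ := hδ 0
    let e := (mon J' f).rightDerivedZeroIsoSelf
    let δ' : (mon J' f).obj S.X₃ ⟶ ((mon J' f).rightDerived 1).obj F' := e.inv.app S.X₃ ≫ δ 0
    have hδ' : (mon J' f).map S.g ≫ δ' = 0 := by
      change (mon J' f).map S.g ≫ e.inv.app S.X₃ ≫ δ 0 = 0
      have h2 := e.inv.naturality S.g
      rw [← Category.assoc, h2, Category.assoc, w₁, comp_zero]
    have hex : (ShortComplex.mk _ δ' hδ').Exact := by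
      refine (ShortComplex.exact_iff_of_iso ?_).1 h₁
      exact ShortComplex.isoMk (e.app S.X₂) (e.app S.X₃) (Iso.refl _) (e.hom.naturality S.g).symm (by
        change e.hom.app S.X₃ ≫ e.inv.app S.X₃ ≫ δ 0 = δ 0 ≫ 𝟙 _
        rw [Iso.hom_inv_id_app_assoc, Category.comp_id])
    exact kill_one f hcov hpb S hS hI δ' hδ' hex hR θ hθ
  | succ n ih =>
    intro F' hR θ hθ
    let I : InjectivePresentation F' := Classical.arbitrary _
    let S := ShortComplex.mk _ _ (cokernel.condition I.f)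
    have hI : Injective S.X₂ := I.injective
    have hS : S.ShortExact := { exact := ShortComplex.exact_cokernel I.f }
    obtain ⟨-, -, δ, hδ⟩ := Cohder.RDLES.exists_les (mon J' f) hS
    obtain ⟨w₁, w₂, h₁, h₂⟩ := hδ (n + 1)
    have hz₁ := (mon J' f).isZero_rightDerived_obj_injective_succ n S.X₂
    have hz₂ := (mon J' f).isZero_rightDerived_obj_injective_succ (n + 1) S.X₂
    have hm : Mono (δ (n + 1)) := h₁.mono_g (hz₁.eq_of_src _ _)
    have he : Epi (δ (n + 1)) := h₂.epi_f (hz₂.eq_of_tgt _ _)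
    have hiso : IsIso (δ (n + 1)) := isIso_of_mono_of_epi _
    have hR' : Presheaf.IsSheaf (J.over Y) (((mon J' f).rightDerived (n + 1)).obj S.X₃).obj :=
      (Presheaf.isSheaf_of_iso_iff ((sheafToPresheaf _ _).mapIso (asIso (δ (n + 1))))).2 hR
    obtain ⟨θ₁, hθ₁⟩ := Ext.covariant_sequence_exact₁ ((freeFunctor (J'.over Y)).obj (Over.mk f)) hS θ
      (Ext.eq_zero_of_injective _) (n₀ := n + 1) rfl
    have hcomp : ∀ {U : Over Y} (k : U ⟶ Over.mk f), CohSite.res S.X₁ (n + 2) k θ =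
        (CohSite.res S.X₃ (n + 1) k θ₁ : Ext ((freeFunctor (J'.over Y)).obj U) S.X₃ (n + 1)).comp
          hS.extClass (rfl : n + 1 + 1 = n + 2) := by
      intro U k
      rw [res_eq, ← hθ₁, ← Ext.comp_assoc _ _ _ (zero_add (n + 1)) _ (by omega)]
      rfl
    obtain ⟨ι, Z, g, hZ, hg⟩ := ih S.X₃ hR' θ₁ (by
      intro W p q hW
      have h3 := hθ W p q hW
      rw [hcomp, hcomp] at h3
      exact comp_extClass_injective hS hI n h3)
    refine ⟨ι, Z, g, hZ, fun i W p q hpq => ?_⟩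
    refine (hcomp _).trans ?_
    exact comp_extClass_eq_zero hS n (hg i W p q hpq)

end one

end K579.Kill
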