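import Groth.Agent.SiteCmp.K579.Van
import Groth.Agent.CohtopA.PushCan
import Groth.Agent.CohtopA.KillClass

/-!
# Comparison of cohomology for two topologies

* `huEquivEps`: `H^n_{τ'}(U, ε_* F) ≃ H^n_τ(U, F)` for `F` acyclic for `ε_*`.
* `nonempty_hu_inv`: `H^n_{τ'}(U, F') ≃ H^n_τ(U, ε⁻¹ F')`.
-/

set_option autoImplicit false
universe u
open CategoryTheory CategoryTheory.Limits Opposite

noncomputable section
namespace K579.HCmp

open Groth.Agent K579.EpsSh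

variable {C : Type u} [SmallCategory C] {J J' : GrothendieckTopology C} (h : J' ≤ J)

/-- `H^n_{τ'}(U, ε_* F) ≃ H^n_τ(U, F)` for `F` acyclic for `ε_*`. -/
def huEquivEps (F : Sheaf J AddCommGrpCat.{u})
    (hF : ∀ q : ℕ, IsZero (((SiteCmp.epsSh h AddCommGrpCat.{u}).rightDerived (q + 1)).obj F)) (n : ℕ) (U : C) :
    CohSite.HU ((SiteCmp.epsSh h AddCommGrpCat.{u}).obj F) n U ≃+ CohSite.HU F n U := by
  haveI := SiteCmp.idContinuous h
  exact AddEquiv.ofBijective (CohtopA.PushCan.canU.{u, u} J J' (𝟭 C) (SiteCmp.epsShAdj h AddCommGrpCat.{u}) U F n)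
    (CohtopA.PushCan.canU_bijective J J' (𝟭 C) (SiteCmp.epsShAdj h AddCommGrpCat.{u}) U F hF n)

/-- Isomorphic sheaves have isomorphic cohomology. -/
def huCongr {F G : Sheaf J AddCommGrpCat.{u}} (e : F ≅ G) (n : ℕ) (U : C) :
    CohSite.HU F n U ≃+ CohSite.HU G n U :=
  CohtopA.FreeYo.extCongrRight ((CohtopA.KillClass.freeFunctor J).obj U) e n

/-- `H^n_{τ'}(U, F') ≃ H^n_τ(U, ε⁻¹ F')` if `F'` is a `τ`-sheaf and `R^i ε_* (ε⁻¹ F') = 0` for `i ≥ 1`. -/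
theorem nonempty_hu_inv (F' : Sheaf J' AddCommGrpCat.{u})
    (hF' : IsIso ((SiteCmp.epsShAdj h AddCommGrpCat.{u}).unit.app F'))
    (hF : ∀ q : ℕ, IsZero (((SiteCmp.epsSh h AddCommGrpCat.{u}).rightDerived (q + 1)).obj
      ((SiteCmp.epsShInv h AddCommGrpCat.{u}).obj F'))) (n : ℕ) (U : C) :
    Nonempty (CohSite.HU F' n U ≃+ CohSite.HU ((SiteCmp.epsShInv h AddCommGrpCat.{u}).obj F') n U) :=
  ⟨(huCongr (asIso ((SiteCmp.epsShAdj h AddCommGrpCat.{u}).unit.app F')) n U).trans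
    (huEquivEps h _ hF n U)⟩

end K579.HCmp
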