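import Groth.Agent.SiteCmp.K579.TRTrunc
import Groth.Agent.CohtopA.RDComp
import Groth.Prelude.Def_WeakSerre

/-!
# Comparison of two topologies, abstract part

`a ⊣ ε`, `a` exact, `ε` fully faithful; `A'` a weak Serre class of objects `F` with `F ≅ ε a F`.
* `Sep adj X`: the unit `X ⟶ ε a X` is a monomorphism.
* `sep_homology_TR`: `H^n(Rε M)` is separated if `R^i ε` vanishes on the `H^j(M)` for `1 ≤ i ≤ n`.
* `mono_unit`: the induction step of the vanishing of `R^i ε` on `a A'`.
-/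

set_option autoImplicit false
universe w w' v u
open CategoryTheory CategoryTheory.Limits

set_option linter.unusedSectionVars false

noncomputable section
namespace K579.Abs

open Groth.Agent Groth.Agent.Etrest.RDer3 Groth.Agent.Sga4h.WayOut DerivedCategory Pretriangulated
open K579.TRTrunc

variable {T : Type u} [Category.{v} T] [Abelian T] {T' : Type u} [Category.{v} T'] [Abelian T']
  {ε : T ⥤ T'} {a : T' ⥤ T} (adj : a ⊣ ε)

section Sep

/-- The unit `X ⟶ ε a X` is a monomorphism. -/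
def Sep (X : T') : Prop := Mono (adj.unit.app X)

variable {adj}

lemma sep_of_mono {X Y : T'} (f : X ⟶ Y) [Mono f] (hY : Sep adj Y) : Sep adj X := by
  have h : Mono (adj.unit.app Y) := hY
  have h1 : adj.unit.app X ≫ ε.map (a.map f) = f ≫ adj.unit.app Y := (adj.unit.naturality f).symm
  have h2 : Mono (adj.unit.app X ≫ ε.map (a.map f)) := by rw [h1]; infer_instance
  exact mono_of_mono _ (ε.map (a.map f))

variable (adj) in
lemma sep_obj (X : T) : Sep adj (ε.obj X) := by
  have h : Mono (adj.unit.app (ε.obj X) ≫ ε.map (adj.counit.app X)) := by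
    rw [adj.right_triangle_components]
    exact inferInstanceAs (Mono (𝟙 (ε.obj X)))
  exact mono_of_mono _ (ε.map (adj.counit.app X))

lemma sep_of_iso {X Y : T'} (e : X ≅ Y) (hY : Sep adj Y) : Sep adj X := sep_of_mono e.hom hY

lemma eq_zero_of_sep [a.PreservesZeroMorphisms] [ε.PreservesZeroMorphisms] {S Y : T'}
    (hY : Sep adj Y) (hS : IsZero (a.obj S)) (f : S ⟶ Y) : f = 0 := by
  have h : Mono (adj.unit.app Y) := hY
  rw [← cancel_mono (adj.unit.app Y), zero_comp]
  refine (adj.unit.naturality f).trans ?_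
  have h1 : (a ⋙ ε).map f = 0 := IsZero.eq_of_src (Functor.map_isZero ε hS) _ _
  rw [h1, comp_zero]

end Sep

section coker

/-- If `q` is a monomorphism then `coker p ⟶ coker (p ≫ q)` is a monomorphism. -/
lemma mono_cokernel_map {X Y Z : T'} (p : X ⟶ Y) (q : Y ⟶ Z) [Mono q] :
    Mono (cokernel.map p (p ≫ q) (𝟙 X) q (by simp)) := by
  apply Preadditive.mono_of_cancel_zero
  intro A t ht
  obtain ⟨A', π, hπ, y, hy⟩ := surjective_up_to_refinements_of_epi (cokernel.π p) t
  have h1 : (y ≫ q) ≫ cokernel.π (p ≫ q) = 0 := by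
    have h2 : (π ≫ t) ≫ cokernel.map p (p ≫ q) (𝟙 X) q (by simp) = 0 := by
      rw [Category.assoc, ht, comp_zero]
    rw [hy, Category.assoc, cokernel.π_desc] at h2
    simpa using h2
  have hex : (ShortComplex.mk (p ≫ q) (cokernel.π (p ≫ q)) (cokernel.condition _)).Exact :=
    ShortComplex.exact_cokernel _
  rw [ShortComplex.exact_iff_exact_up_to_refinements] at hex
  obtain ⟨A'', π', hπ', x, hx⟩ := hex (y ≫ q) h1
  have h3 : π' ≫ y = x ≫ p := by
    rw [← cancel_mono q, Category.assoc, Category.assoc]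
    exact hx
  have : Epi (π' ≫ π) := epi_comp _ _
  rw [← cancel_epi (π' ≫ π), comp_zero, Category.assoc, hy, ← Category.assoc, h3, Category.assoc,
    cokernel.condition, comp_zero]

end coker

variable [ε.Additive] [a.Additive] [PreservesFiniteLimits a] [PreservesFiniteColimits a]
  [ε.Full] [ε.Faithful]

/-- `a H^i(ε L) ≅ H^i(L)`. -/
def aHomologyIso (L : CochainComplex T ℤ) (i : ℤ) :
    a.obj (((ε.mapHomologicalComplex (.up ℤ)).obj L).homology i) ≅ L.homology i :=
  haveI : IsIso adj.counit := inferInstance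
  (CohtopA.RDComp.mapHomologyIso a ((ε.mapHomologicalComplex (.up ℤ)).obj L) i).symm ≪≫
    (HomologicalComplex.homologyFunctor T (.up ℤ) i).mapIso
      (HomologicalComplex.Hom.isoOfComponents (fun j => (asIso adj.counit).app (L.X j))
        (fun j k _ => (adj.counit.naturality (L.d j k)).symm))

section weak

variable (A' : ObjectProperty T') [WSerre.IsWeakSerre A'] (hA : ∀ F, A' F → IsIso (adj.unit.app F))

include hA in
lemma sep_of_mem {F : T'} (hF : A' F) : Sep adj F := by
  have := hA F hF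
  exact inferInstanceAs (Mono (adj.unit.app F))

include adj hA in
/-- The objects `G` with `ε G ∈ A'` are closed under cokernels. -/
lemma cokernel_mem {G₁ G₂ : T} (φ : G₁ ⟶ G₂) (h₁ : A' (ε.obj G₁)) (h₂ : A' (ε.obj G₂)) :
    A' (ε.obj (cokernel φ)) := by
  have h : A' (cokernel (ε.map φ)) :=
    A'.prop_cokernel (ε.map φ) h₁ h₂
  have := hA _ h
  have : IsIso adj.counit := inferInstance
  let e : a.obj (cokernel (ε.map φ)) ≅ cokernel φ :=
    PreservesCokernel.iso a (ε.map φ) ≪≫ cokernel.mapIso _ _ ((asIso adj.counit).app G₁)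
      ((asIso adj.counit).app G₂) (adj.counit.naturality φ)
  exact A'.prop_of_iso (asIso (adj.unit.app (cokernel (ε.map φ))) ≪≫ ε.mapIso e) h

include adj hA in
lemma mem_of_exact (S : ShortComplex T) (hS : S.Exact) (hg : Epi S.g) (h₁ : A' (ε.obj S.X₁))
    (h₂ : A' (ε.obj S.X₂)) : A' (ε.obj S.X₃) := by
  have e₁ : Mono (cokernel.desc S.f S.g S.zero) := hS.mono_cokernelDesc
  have e₂ : Epi (cokernel.desc S.f S.g S.zero) := by
    have : Epi (cokernel.π S.f ≫ cokernel.desc S.f S.g S.zero) := by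
      rw [cokernel.π_desc]; infer_instance
    exact epi_of_epi (cokernel.π S.f) _
  have : IsIso (cokernel.desc S.f S.g S.zero) := isIso_of_mono_of_epi _
  exact A'.prop_of_iso (ε.mapIso (asIso (cokernel.desc S.f S.g S.zero)))
    (cokernel_mem adj A' hA S.f h₁ h₂)

include adj hA in
/-- If `X₁ → X₂ → X₃` is exact with `X₁ ∈ A'`, `ε a X₂ ∈ A'`, `X₂` separated and `a X₃ = 0` then
the second map vanishes. -/
lemma g_eq_zero (S : ShortComplex T') (hS : S.Exact) (hX : A' S.X₁) (hY : Sep adj S.X₂)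
    (hZ : A' (ε.obj (a.obj S.X₂))) (h0 : IsZero (a.obj S.X₃)) : S.g = 0 := by
  have hq : Mono (adj.unit.app S.X₂) := hY
  have hC : Sep adj (cokernel (S.f ≫ adj.unit.app S.X₂)) :=
    sep_of_mem adj A' hA (A'.prop_cokernel (S.f ≫ adj.unit.app S.X₂) hX hZ)
  have hmono := mono_cokernel_map S.f (adj.unit.app S.X₂)
  have hmono' : Mono (cokernel.desc S.f S.g S.zero) := hS.mono_cokernelDesc
  have haE : IsZero (a.obj (cokernel S.f)) :=
    IsZero.of_mono (a.map (cokernel.desc S.f S.g S.zero)) h0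
  have hE0 : cokernel.map S.f (S.f ≫ adj.unit.app S.X₂) (𝟙 _) (adj.unit.app S.X₂) (by simp) = 0 :=
    eq_zero_of_sep hC haE _
  have hE : IsZero (cokernel S.f) := by
    rw [hE0] at hmono
    exact IsZero.of_mono_zero _ (cokernel (S.f ≫ adj.unit.app S.X₂))
  rw [← cokernel.π_desc S.f S.g S.zero, hE.eq_of_tgt (cokernel.π S.f) 0, zero_comp]

end weak

variable [EnoughInjectives T] [HasKInj T] [HasDerivedCategory.{w} T] [HasDerivedCategory.{w'} T']

section LemmaB

omit [a.Additive] [PreservesFiniteLimits a] [PreservesFiniteColimits a] [ε.Full] [ε.Faithful] in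
/-- `H^{b+n}(Rε M)` is separated when `M` is `≥ b` and `R^i ε` vanishes on `H^j(M)` for
`1 ≤ i ≤ n`, `b ≤ j ≤ b + n`. -/
theorem sep_homology_TR (P : ObjectProperty T) [P.IsClosedUnderIsomorphisms] (n : ℕ)
    (hV : ∀ G : T, P G → ∀ i : ℕ, 1 ≤ i → i ≤ n → IsZero ((ε.rightDerived i).obj G))
    (M : DerivedCategory T) (b : ℤ) [hMb : M.IsGE b]
    (hM : ∀ i : ℤ, b ≤ i → i ≤ b + n → P ((homologyFunctor T i).obj M)) :
    Sep adj ((homologyFunctor T' (b + n)).obj ((TR ε).obj M)) := by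
  have hlim : PreservesFiniteLimits ε := by
    have := adj.rightAdjoint_preservesLimits
    infer_instance
  induction n generalizing b M with
  | zero =>
    obtain ⟨e⟩ := nonempty_iso_homology_TR ε M b 0 (fun i h1 h2 => by
      simp only [Nat.cast_zero, add_zero] at h2; lia) 0 le_rfl
    exact sep_of_iso (e ≪≫ ε.rightDerivedZeroIsoSelf.app _) (sep_obj adj _)
  | succ n ih =>
    obtain ⟨Y, M₀, f, g, h, hT, hY, ⟨e⟩, hg⟩ := exists_trunc_gap M b 0 (fun i h1 h2 => by
      simp only [Nat.cast_zero, add_zero] at h2; lia)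
    have hY' : Y.IsGE (b + 1) := by simpa using hY
    have hFT := (TR ε).map_distinguished _ hT
    have hM₀ : P M₀ := P.prop_of_iso e.symm (hM b le_rfl (by push_cast; lia))
    obtain ⟨e'⟩ := nonempty_iso_TR_single ε M₀ b (n + 1)
    have h0 : IsZero ((homologyFunctor T' (b + (n + 1 : ℕ))).obj
        ((TR ε).obj ((singleFunctor T b).obj M₀))) :=
      (hV M₀ hM₀ (n + 1) (by lia) le_rfl).of_iso e'
    have hmono : Mono ((homologyFunctor T' (b + (n + 1 : ℕ))).map ((TR ε).map g)) :=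
      (HomologySequence.mono_homologyMap_mor₂_iff _ hFT (b + (n + 1 : ℕ))).2 (h0.eq_of_src _ _)
    refine sep_of_mono ((homologyFunctor T' (b + (n + 1 : ℕ))).map ((TR ε).map g)) ?_
    have h2 := ih (fun G hG i h1 h2 => hV G hG i h1 (by lia)) Y (b + 1) (fun i h1 h2 => by
      have := hg i (by lia)
      exact P.prop_of_iso (asIso ((homologyFunctor T i).map g)) (hM i (by lia)
        (by push_cast; lia)))
    have h3 : b + ((n + 1 : ℕ) : ℤ) = b + 1 + n := by push_cast; ring
    rw [h3]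
    exact h2

end LemmaB

section Main

variable [EnoughInjectives T'] [HasKInj T'] (A' : ObjectProperty T') [WSerre.IsWeakSerre A']
  (hA : ∀ F, A' F → IsIso (adj.unit.app F))
  (π' : T' ⥤ T') [π'.Additive] (η' : 𝟭 T' ⟶ π') (π : T ⥤ T) [π.Additive] (η : 𝟭 T ⟶ π)
  (θ : ε ⋙ π' ≅ π ⋙ ε) (hθ : ∀ X, η'.app (ε.obj X) ≫ θ.hom.app X = ε.map (η.app X))
  (hπ : ∀ I : CochainComplex T ℤ, I.IsKInjective →
    CochainComplex.IsKInjective ((π.mapHomologicalComplex (.up ℤ)).obj I))
  (hη : ∀ X, Mono (η.app X))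
  (hR : ∀ F, A' F → ∀ i, A' ((π'.rightDerived i).obj F))
  (n : ℕ) (hV : ∀ F, A' F → ∀ i : ℕ, 1 ≤ i → i ≤ n → IsZero ((ε.rightDerived i).obj (a.obj F)))

/-- `π' (ε L) ≅ ε (π L)` on complexes. -/
def thetaCx (L : CochainComplex T ℤ) :
    (π'.mapHomologicalComplex (.up ℤ)).obj ((ε.mapHomologicalComplex (.up ℤ)).obj L) ≅
      (ε.mapHomologicalComplex (.up ℤ)).obj ((π.mapHomologicalComplex (.up ℤ)).obj L) :=
  HomologicalComplex.Hom.isoOfComponents (fun j => θ.app (L.X j))
    (fun j k _ => (θ.hom.naturality (L.d j k)).symm)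

include hθ in
lemma uC_thetaCx (L : CochainComplex T ℤ) :
    (uC π' η').app ((ε.mapHomologicalComplex (.up ℤ)).obj L) ≫ (thetaCx π' π θ L).hom =
      (ε.mapHomologicalComplex (.up ℤ)).map ((uC π η).app L) := by
  ext j
  exact hθ (L.X j)

variable {A' π' η' π η}

include adj in
lemma isKInj_eps (L : CochainComplex T ℤ) (hL : L.IsKInjective) :
    CochainComplex.IsKInjective ((ε.mapHomologicalComplex (.up ℤ)).obj L) :=
  S0481.aux ε a adj L hL

include adj in
lemma preservesFiniteLimits_eps : PreservesFiniteLimits ε := by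
  have := adj.rightAdjoint_preservesLimits
  infer_instance

include adj hA hV in
lemma hV' (G : T) (hG : A' (ε.obj G)) (i : ℕ) (h1 : 1 ≤ i) (h2 : i ≤ n) :
    IsZero ((ε.rightDerived i).obj G) :=
  (hV _ hG i h1 h2).of_iso ((ε.rightDerived i).mapIso ((asIso adj.counit).app G).symm)

/-- `Q(ε L) ≅ Rε(Q L)` for `L` K-injective. -/
def eK (L : CochainComplex T ℤ) (hL : L.IsKInjective) :
    DerivedCategory.Q.obj ((ε.mapHomologicalComplex (.up ℤ)).obj L) ≅
      (TR ε).obj (DerivedCategory.Q.obj L) :=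
  haveI := isIso_unitQ_of_isKInjective ε L hL
  asIso ((unitQ ε).app L)

include adj in
/-- `a H^i(Rε M) ≅ H^i(M)`. -/
lemma nonempty_aHomology (M : DerivedCategory T) (i : ℤ) :
    Nonempty (a.obj ((homologyFunctor T' i).obj ((TR ε).obj M)) ≅ (homologyFunctor T i).obj M) := by
  obtain ⟨L, ⟨e⟩⟩ : ∃ L, Nonempty (DerivedCategory.Q.obj L ≅ M) := ⟨_, ⟨Q.objObjPreimageIso M⟩⟩
  obtain ⟨I, f, hI, hf⟩ := HasKInj.out L
  let e' : M ≅ DerivedCategory.Q.obj I := e.symm ≪≫ asIso (DerivedCategory.Q.map f)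
  exact ⟨a.mapIso ((homologyFunctor T' i).mapIso ((TR ε).mapIso e' ≪≫ (eK I hI).symm) ≪≫
    (homologyFunctorFactors T' i).app _) ≪≫ aHomologyIso adj I i ≪≫
    ((homologyFunctorFactors T i).app I).symm ≪≫ (homologyFunctor T i).mapIso e'.symm⟩

section

variable (I : CochainComplex T ℤ) (hI : I.IsKInjective) [hI0 : I.IsStrictlyGE 0]
  (hI1 : ∀ i : ℤ, 0 < i → IsZero ((homologyFunctor T i).obj (DerivedCategory.Q.obj I)))
  (hF : A' (ε.obj ((homologyFunctor T 0).obj (DerivedCategory.Q.obj I))))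

include adj hI1 in
lemma nonempty_iso_H (q : ℕ) :
    Nonempty ((homologyFunctor T' (0 + q)).obj ((TR ε).obj (DerivedCategory.Q.obj I)) ≅
      (ε.rightDerived q).obj ((homologyFunctor T 0).obj (DerivedCategory.Q.obj I))) := by
  have := preservesFiniteLimits_eps adj
  exact nonempty_iso_homology_TR ε (DerivedCategory.Q.obj I) 0 q (fun i h1 _ => hI1 i h1) q le_rfl

include adj hI1 hF hA hV in
lemma gap (i : ℤ) (h1 : 0 < i) (h2 : i ≤ 0 + n) :
    IsZero ((homologyFunctor T' i).obj ((TR ε).obj (DerivedCategory.Q.obj I))) := by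
  obtain ⟨q, rfl⟩ := Int.eq_ofNat_of_zero_le h1.le
  obtain ⟨e⟩ := nonempty_iso_H adj I hI1 q
  have h3 : (0 : ℤ) + q = q := zero_add _
  rw [h3] at e
  exact (hV' adj hA n hV _ hF q (by lia) (by lia)).of_iso e

include adj hI1 hF in
lemma mem_H0 : A' ((homologyFunctor T' 0).obj ((TR ε).obj (DerivedCategory.Q.obj I))) := by
  have := preservesFiniteLimits_eps adj
  obtain ⟨e⟩ := nonempty_iso_H adj I hI1 0
  exact A'.prop_of_iso (e ≪≫ ε.rightDerivedZeroIsoSelf.app _).symm hF

include adj hI1 hF hA hV hR in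
/-- `H^q(Rπ' Rε I) ∈ A'` for `q ≤ n`. -/
lemma mem_Hpi' (q : ℕ) (hq : q ≤ n) : A' ((homologyFunctor T' (0 + q)).obj
    ((TR π').obj ((TR ε).obj (DerivedCategory.Q.obj I)))) := by
  have h0 : ((TR ε).obj (DerivedCategory.Q.obj I)).IsGE 0 := TR_isGE ε _ 0
  obtain ⟨e⟩ := nonempty_iso_homology_TR π' ((TR ε).obj (DerivedCategory.Q.obj I)) 0 n
    (gap adj hA n hV I hI1 hF) q hq
  exact A'.prop_of_iso e.symm (hR _ (mem_H0 adj I hI1 hF) q)

include adj hI hπ θ in
/-- `Rε (π I) ≅ Rπ' (Rε I)`. -/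
lemma nonempty_ePi : Nonempty ((TR ε).obj (DerivedCategory.Q.obj
    ((π.mapHomologicalComplex (.up ℤ)).obj I)) ≅
      (TR π').obj ((TR ε).obj (DerivedCategory.Q.obj I))) := by
  have h := isKInj_eps adj I hI
  exact ⟨(eK _ (hπ I hI)).symm ≪≫ DerivedCategory.Q.mapIso (thetaCx π' π θ I).symm ≪≫
    eK _ h ≪≫ (TR π').mapIso (eK I hI)⟩

include adj hI hπ θ hI1 hF hA hV hR in
/-- `ε H^q(π I) ∈ A'` for `q ≤ n`. -/
lemma mem_Hpi (q : ℕ) (hq : q ≤ n) : A' (ε.obj ((homologyFunctor T (0 + q)).obj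
    (DerivedCategory.Q.obj ((π.mapHomologicalComplex (.up ℤ)).obj I)))) := by
  obtain ⟨e⟩ := nonempty_ePi adj θ hπ I hI
  obtain ⟨e'⟩ := nonempty_aHomology adj (DerivedCategory.Q.obj
    ((π.mapHomologicalComplex (.up ℤ)).obj I)) (0 + q)
  have h := A'.prop_of_iso ((homologyFunctor T' (0 + q)).mapIso e.symm)
    (mem_Hpi' adj hA hR n hV I hI1 hF q hq)
  have := hA _ h
  exact A'.prop_of_iso (asIso (adj.unit.app _) ≪≫ ε.mapIso e') h

include hη in
lemma mono_H0 : Mono ((homologyFunctor T 0).map (DerivedCategory.Q.map ((uC π η).app I))) := by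
  have h1 : CochainComplex.IsStrictlyGE ((π.mapHomologicalComplex (.up ℤ)).obj I) 0 := inferInstance
  have h2 : CochainComplex.IsStrictlyGE ((𝟭 (CochainComplex T ℤ)).obj I) 0 := hI0
  have h3 : Mono (HomologicalComplex.homologyMap ((uC π η).app I) 0) := by
    have h4 := incl_naturality 0 ((uC π η).app I)
    have h5 : Mono (((uC π η).app I).f 0) := hη (I.X 0)
    have h6 : Mono (HomologicalComplex.homologyMap ((uC π η).app I) 0 ≫ incl _ 0) := by
      rw [h4]; infer_instance
    exact mono_of_mono _ (incl ((π.mapHomologicalComplex (.up ℤ)).obj I) 0)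
  have h4 : Mono ((homologyFunctor T 0).map (DerivedCategory.Q.map ((uC π η).app I)) ≫
      (homologyFunctorFactors T 0).hom.app _) := by
    rw [homologyFunctorFactors_hom_naturality]
    exact @mono_comp _ _ _ _ _ _ inferInstance _ h3
  exact mono_of_mono _ ((homologyFunctorFactors T 0).hom.app _)

include adj hI hπ θ hI1 hF hA hV hR hη in
/-- The induction step, first part: `H^{n+1}(Rε I) ⟶ H^{n+1}(Rε (π I))` is a monomorphism. -/
lemma mono_claim : Mono ((homologyFunctor T' (0 + (n + 1 : ℕ))).map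
    ((TR ε).map (DerivedCategory.Q.map ((uC π η).app I)))) := by
  obtain ⟨M, g, h, hT⟩ := distinguished_cocone_triangle (DerivedCategory.Q.map ((uC π η).app I))
  have hFT := (TR ε).map_distinguished _ hT
  -- the cohomology of `M`
  have hMH : ∀ q : ℕ, q ≤ n → A' (ε.obj ((homologyFunctor T (0 + q)).obj M)) := by
    intro q hq
    have hex := HomologySequence.exact₂ _ hT (0 + q)
    have hepi : Epi ((homologyFunctor T (0 + q)).map g) := by
      refine (HomologySequence.epi_homologyMap_mor₂_iff _ hT (0 + q) (0 + q + 1) rfl).2 ?_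
      exact (hI1 (0 + q + 1) (by lia)).eq_of_tgt _ _
    have hX₂ := mem_Hpi adj hA θ hπ hR n hV I hI hI1 hF q hq
    rcases q with _ | q
    · exact mem_of_exact adj A' hA _ hex hepi hF hX₂
    · have hmono : Mono ((homologyFunctor T (0 + (q + 1 : ℕ))).map g) := by
        refine (HomologySequence.mono_homologyMap_mor₂_iff _ hT (0 + (q + 1 : ℕ))).2 ?_
        exact (hI1 (0 + (q + 1 : ℕ)) (by push_cast; lia)).eq_of_src _ _
      have : IsIso ((homologyFunctor T (0 + (q + 1 : ℕ))).map g) := isIso_of_mono_of_epi _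
      exact A'.prop_of_iso (ε.mapIso (asIso ((homologyFunctor T (0 + (q + 1 : ℕ))).map g))) hX₂
  have hMGE : M.IsGE 0 := by
    have h1 : (DerivedCategory.Q.obj I).IsGE 0 := inferInstance
    have h2 : (DerivedCategory.Q.obj ((π.mapHomologicalComplex (.up ℤ)).obj I)).IsGE 0 := by
      have : CochainComplex.IsStrictlyGE ((π.mapHomologicalComplex (.up ℤ)).obj I) 0 := inferInstance
      infer_instance
    rw [isGE_iff]
    intro i hi
    -- `H^i(π I) = 0`, and `H^{i+1}(I) ⟶ H^{i+1}(π I)` is a monomorphism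
    have h3 : Mono ((homologyFunctor T (i + 1)).map (DerivedCategory.Q.map ((uC π η).app I))) := by
      by_cases hi' : i + 1 = 0
      · rw [hi']
        exact mono_H0 hη I
      · have : IsZero ((homologyFunctor T (i + 1)).obj (DerivedCategory.Q.obj I)) :=
          isZero_of_isGE _ 0 (i + 1) (by lia)
        exact ⟨fun a b _ => this.eq_of_tgt _ _⟩
    have h4 : HomologySequence.δ _ i (i + 1) rfl = 0 :=
      (HomologySequence.mono_homologyMap_mor₁_iff _ hT i (i + 1) rfl).1 h3
    have h5 : Epi ((homologyFunctor T i).map g) :=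
      (HomologySequence.epi_homologyMap_mor₂_iff _ hT i (i + 1) rfl).2 h4
    exact IsZero.of_epi ((homologyFunctor T i).map g)
      (isZero_of_isGE (DerivedCategory.Q.obj ((π.mapHomologicalComplex (.up ℤ)).obj I)) 0 i hi)
  -- `H^n(Rε M)` is separated and `ε a H^n(Rε M) ∈ A'`
  let X := (homologyFunctor T' (0 + n)).obj ((TR ε).obj
    (DerivedCategory.Q.obj ((π.mapHomologicalComplex (.up ℤ)).obj I)))
  let Y := (homologyFunctor T' (0 + n)).obj ((TR ε).obj M)
  let p : X ⟶ Y := (homologyFunctor T' (0 + n)).map ((TR ε).map g)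
  have hY : Sep adj Y := by
    refine sep_homology_TR adj (A'.inverseImage ε) n (fun G hG i h1 h2 =>
      hV' adj hA n hV G hG i h1 h2) M 0 ?_
    intro i h1 h2
    obtain ⟨q, rfl⟩ := Int.eq_ofNat_of_zero_le h1
    have := hMH q (by lia)
    rw [zero_add] at this
    exact this
  have hX : A' X := by
    obtain ⟨e⟩ := nonempty_ePi adj θ hπ I hI
    exact A'.prop_of_iso ((homologyFunctor T' (0 + n)).mapIso e.symm)
      (mem_Hpi' adj hA hR n hV I hI1 hF n le_rfl)
  have hZ : A' (ε.obj (a.obj Y)) := by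
    obtain ⟨e⟩ := nonempty_aHomology adj M (0 + n)
    exact A'.prop_of_iso (ε.mapIso e.symm) (hMH n le_rfl)
  have h0 : IsZero (a.obj ((homologyFunctor T' (0 + (n + 1 : ℕ))).obj
      ((TR ε).obj (DerivedCategory.Q.obj I)))) := by
    obtain ⟨e⟩ := nonempty_aHomology adj (DerivedCategory.Q.obj I) (0 + (n + 1 : ℕ))
    exact (hI1 (0 + (n + 1 : ℕ)) (by push_cast; lia)).of_iso e
  -- the connecting map
  exact (HomologySequence.mono_homologyMap_mor₁_iff _ hFT (0 + n) (0 + (n + 1 : ℕ))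
    (by push_cast; ring)).2 (g_eq_zero adj A' hA _ (HomologySequence.exact₃ _ hFT (0 + n)
      (0 + (n + 1 : ℕ)) (by push_cast; ring)) hX hY hZ h0)

include adj hI hπ hθ hI1 hF hA hV hR hη in
lemma mono_HU : Mono ((homologyFunctor T' (0 + (n + 1 : ℕ))).map
    ((U π' η').app ((TR ε).obj (DerivedCategory.Q.obj I)))) := by
  have hεI := isKInj_eps adj I hI
  have h1 := mono_claim adj hA θ hπ hη hR n hV I hI hI1 hF
  -- `H(Q(ε(u_I)))` is mono
  have h2 : Mono ((homologyFunctor T' (0 + (n + 1 : ℕ))).map (DerivedCategory.Q.map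
      ((ε.mapHomologicalComplex (.up ℤ)).map ((uC π η).app I)))) := by
    have nat := (unitQ ε).naturality ((uC π η).app I)
    have h3 : IsIso ((unitQ ε).app ((𝟭 (CochainComplex T ℤ)).obj I)) :=
      isIso_unitQ_of_isKInjective ε I hI
    have h4 : Mono ((homologyFunctor T' (0 + (n + 1 : ℕ))).map
        ((unitQ ε).app ((𝟭 (CochainComplex T ℤ)).obj I) ≫
          (DerivedCategory.Q ⋙ TR ε).map ((uC π η).app I))) := by
      rw [Functor.map_comp]
      exact @mono_comp _ _ _ _ _ _ inferInstance _ h1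
    rw [← nat, Functor.map_comp] at h4
    exact @mono_of_mono _ _ _ _ _ _ _ h4
  have h3 : Mono ((homologyFunctor T' (0 + (n + 1 : ℕ))).map (DerivedCategory.Q.map
      ((uC π' η').app ((ε.mapHomologicalComplex (.up ℤ)).obj I)))) := by
    rw [← uC_thetaCx π' η' π η θ hθ I, Functor.map_comp, Functor.map_comp] at h2
    exact mono_of_mono _ ((homologyFunctor T' (0 + (n + 1 : ℕ))).map
      (DerivedCategory.Q.map (thetaCx π' π θ I).hom))
  have nat := (U π' η').naturality (eK (ε := ε) I hI).hom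
  have h4 : IsIso ((unitQ π').app ((ε.mapHomologicalComplex (.up ℤ)).obj I)) :=
    isIso_unitQ_of_isKInjective π' _ hεI
  have h5 : Mono ((homologyFunctor T' (0 + (n + 1 : ℕ))).map
      ((U π' η').app (DerivedCategory.Q.obj ((ε.mapHomologicalComplex (.up ℤ)).obj I)) ≫
        (TR π').map (eK (ε := ε) I hI).hom)) := by
    rw [U_app, Functor.map_comp, Functor.map_comp]
    have h6 : Mono ((homologyFunctor T' (0 + (n + 1 : ℕ))).map (DerivedCategory.Q.map
        ((uC π' η').app ((ε.mapHomologicalComplex (.up ℤ)).obj I))) ≫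
        (homologyFunctor T' (0 + (n + 1 : ℕ))).map
          ((unitQ π').app ((ε.mapHomologicalComplex (.up ℤ)).obj I))) := by
      exact @mono_comp _ _ _ _ _ _ h3 _ inferInstance
    exact @mono_comp _ _ _ _ _ _ h6 _ inferInstance
  rw [← nat, Functor.map_comp] at h5
  have h6 : (homologyFunctor T' (0 + (n + 1 : ℕ))).map
      ((U π' η').app ((TR ε).obj (DerivedCategory.Q.obj I))) =
      inv ((homologyFunctor T' (0 + (n + 1 : ℕ))).map (eK (ε := ε) I hI).hom) ≫
      ((homologyFunctor T' (0 + (n + 1 : ℕ))).map ((𝟭 (DerivedCategory T')).map (eK (ε := ε) I hI).hom) ≫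
      (homologyFunctor T' (0 + (n + 1 : ℕ))).map
        ((U π' η').app ((TR ε).obj (DerivedCategory.Q.obj I)))) := by
    rw [IsIso.eq_inv_comp]
    rfl
  rw [h6]
  exact @mono_comp _ _ _ _ _ _ inferInstance _ h5

include adj hI hπ hθ hI1 hF hA hV hR hη in
/-- The induction step. -/
theorem mono_unit_aux : Mono (η'.app ((homologyFunctor T' (0 + (n + 1 : ℕ))).obj
    ((TR ε).obj (DerivedCategory.Q.obj I)))) := by
  have hK : ((TR ε).obj (DerivedCategory.Q.obj I)).IsGE 0 := TR_isGE ε _ 0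
  have hU := mono_HU adj hA θ hθ hπ hη hR n hV I hI hI1 hF
  obtain ⟨Y, g, hY, -, -, W, j, w, ⟨eW⟩, hj, hex⟩ := exists_TR_seq (B := T') π'
    ((TR ε).obj (DerivedCategory.Q.obj I)) 0 n (gap adj hA n hV I hI1 hF)
  have hY' : Y.IsGE (0 + (n + 1 : ℕ)) := by
    have : (0 : ℤ) + (n + 1 : ℕ) = 0 + n + 1 := by push_cast; ring
    rw [this]; exact hY
  have hW : Sep adj W := sep_of_mem adj A' hA
    (A'.prop_of_iso eW.symm (hR _ (mem_H0 adj I hI1 hF) (n + 1)))
  have h0 : IsZero (a.obj ((homologyFunctor T' (0 + (n + 1 : ℕ))).obj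
      ((TR ε).obj (DerivedCategory.Q.obj I)))) := by
    obtain ⟨e⟩ := nonempty_aHomology adj (DerivedCategory.Q.obj I) (0 + (n + 1 : ℕ))
    exact (hI1 (0 + (n + 1 : ℕ)) (by push_cast; lia)).of_iso e
  apply Preadditive.mono_of_kernel_zero
  obtain ⟨S, s, hs, hs0⟩ : ∃ (S : T') (s : S ⟶ (homologyFunctor T' (0 + (n + 1 : ℕ))).obj
      ((TR ε).obj (DerivedCategory.Q.obj I))), Mono s ∧ s ≫ η'.app _ = 0 ∧
      (s = 0 → kernel.ι (η'.app ((homologyFunctor T' (0 + (n + 1 : ℕ))).obj
      ((TR ε).obj (DerivedCategory.Q.obj I)))) = 0) :=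
    ⟨_, kernel.ι _, inferInstance, kernel.condition _, fun h => h⟩
  refine hs0.2 ?_
  have haS : IsZero (a.obj S) := IsZero.of_mono (a.map s) h0
  have h1 : (s ≫ (homologyFunctor T' (0 + (n + 1 : ℕ))).map g) ≫ η'.app _ = 0 := by
    have nat := η'.naturality ((homologyFunctor T' (0 + (n + 1 : ℕ))).map g)
    rw [Category.assoc]
    refine (congrArg (fun z => s ≫ z) nat).trans ?_
    refine (Category.assoc _ _ _).symm.trans ?_
    refine (congrArg (fun z => z ≫ π'.map _) hs0.1).trans zero_comp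
  have h2 := comp_homology_U_eq_zero π' η' Y (0 + (n + 1 : ℕ)) _ h1
  have h3 : (s ≫ (homologyFunctor T' (0 + (n + 1 : ℕ))).map
      ((U π' η').app ((TR ε).obj (DerivedCategory.Q.obj I)))) ≫
      (homologyFunctor T' (0 + (n + 1 : ℕ))).map ((TR π').map g) = 0 := by
    have nat := (U π' η').naturality g
    rw [Category.assoc, ← Functor.map_comp]
    refine (congrArg (fun z => s ≫ (homologyFunctor T' (0 + (n + 1 : ℕ))).map z) nat.symm).trans ?_
    rw [Functor.map_comp, ← Category.assoc]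
    exact h2
  have : Mono (ShortComplex.mk _ _ w).f := hj
  have h4 : hex.lift _ h3 ≫ j = _ := hex.lift_f _ h3
  have h5 : hex.lift _ h3 = 0 := eq_zero_of_sep hW haS _
  rw [h5, zero_comp] at h4
  rw [← cancel_mono ((homologyFunctor T' (0 + (n + 1 : ℕ))).map
      ((U π' η').app ((TR ε).obj (DerivedCategory.Q.obj I)))), ← h4, zero_comp]

end

end Main

end K579.Abs
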