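import Groth.Agent.CohtopA.KInjRes2
import Groth.Agent.Etrest.RDer3
import Groth.Prelude.Def_SiteCmp

/-!
# The functor `ε_*` on abelian sheaves

`ε = SiteCmp.epsSh h Ab` is fully faithful, additive, with exact left adjoint `SiteCmp.epsShInv h Ab`;
`Sheaf J Ab` has enough injectives and K-injective resolutions.
* `isIso_unit_of_isSheaf`, `isSheaf_of_iso`: `F ≅ ε ε⁻¹ F` iff `F` is a sheaf for the finer topology.
-/

set_option autoImplicit false
universe u
open CategoryTheory CategoryTheory.Limits Opposite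

noncomputable section
namespace K579.EpsSh

open Groth.Agent

instance {C : Type u} [SmallCategory C] (J : GrothendieckTopology C) :
    Etrest.RDer3.HasKInj (Sheaf J AddCommGrpCat.{u}) where
  out K := by
    obtain ⟨I, f, h1, h2, -, -⟩ := CohtopA.KInjRes2.exists_kInjective_resolution.{u} K
    exact ⟨I, f, h1, h2⟩

variable {C : Type u} [SmallCategory C] {J J' : GrothendieckTopology C} (h : J' ≤ J)

instance additive_epsSh : (SiteCmp.epsSh h AddCommGrpCat.{u}).Additive where

/-- `ε_*` is fully faithful. -/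
def fullyFaithful : (SiteCmp.epsSh h AddCommGrpCat.{u}).FullyFaithful where
  preimage {F G} f := ⟨{ app := fun X => f.hom.app X, naturality := fun X Y g => f.hom.naturality g }⟩

instance full_epsSh : (SiteCmp.epsSh h AddCommGrpCat.{u}).Full := (fullyFaithful h).full
instance faithful_epsSh : (SiteCmp.epsSh h AddCommGrpCat.{u}).Faithful := (fullyFaithful h).faithful

instance isRightAdjoint : haveI := SiteCmp.idContinuous h;
    ((𝟭 C).sheafPushforwardContinuous AddCommGrpCat.{u} J' J).IsRightAdjoint := by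
  have := SiteCmp.idContinuous h
  infer_instance

instance preservesFiniteLimits_inv :
    PreservesFiniteLimits (SiteCmp.epsShInv h AddCommGrpCat.{u}) := by
  have := SiteCmp.idContinuous h
  exact Functor.sheafPullbackConstruction.preservesFiniteLimits (𝟭 C) AddCommGrpCat.{u} J' J

instance preservesFiniteColimits_inv :
    PreservesFiniteColimits (SiteCmp.epsShInv h AddCommGrpCat.{u}) := by
  have := (SiteCmp.epsShAdj h AddCommGrpCat.{u}).leftAdjoint_preservesColimits
  infer_instance

instance additive_inv : (SiteCmp.epsShInv h AddCommGrpCat.{u}).Additive :=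
  (SiteCmp.epsShAdj h AddCommGrpCat.{u}).left_adjoint_additive

instance preservesFiniteLimits_epsSh :
    PreservesFiniteLimits (SiteCmp.epsSh h AddCommGrpCat.{u}) := by
  have := (SiteCmp.epsShAdj h AddCommGrpCat.{u}).rightAdjoint_preservesLimits
  infer_instance

lemma isIso_unit_obj (G : Sheaf J AddCommGrpCat.{u}) :
    IsIso ((SiteCmp.epsShAdj h AddCommGrpCat.{u}).unit.app ((SiteCmp.epsSh h AddCommGrpCat.{u}).obj G)) :=
  inferInstance

lemma isIso_unit_of_iso {F : Sheaf J' AddCommGrpCat.{u}} {G : Sheaf J AddCommGrpCat.{u}}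
    (e : F ≅ (SiteCmp.epsSh h AddCommGrpCat.{u}).obj G) :
    IsIso ((SiteCmp.epsShAdj h AddCommGrpCat.{u}).unit.app F) := by
  have := isIso_unit_obj h G
  rw [NatTrans.isIso_app_iff_of_iso _ e]
  exact this

/-- A `J'`-sheaf which is a `J`-sheaf is in the image of `ε_*`. -/
theorem isIso_unit_of_isSheaf (F : Sheaf J' AddCommGrpCat.{u}) (hF : Presheaf.IsSheaf J F.obj) :
    IsIso ((SiteCmp.epsShAdj h AddCommGrpCat.{u}).unit.app F) :=
  isIso_unit_of_iso h (G := ⟨F.obj, hF⟩) (F := F)
    (ObjectProperty.isoMk _ (NatIso.ofComponents (fun X => Iso.refl (F.obj.obj X)) (fun {X Y} g =>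
      (Category.comp_id _).trans (Category.id_comp _).symm)))

/-- If the unit is an isomorphism then `F` is a `J`-sheaf. -/
theorem isSheaf_of_isIso_unit (F : Sheaf J' AddCommGrpCat.{u})
    (hF : IsIso ((SiteCmp.epsShAdj h AddCommGrpCat.{u}).unit.app F)) : Presheaf.IsSheaf J F.obj := by
  let e : F.obj ≅ ((SiteCmp.epsShInv h AddCommGrpCat.{u}).obj F).obj :=
    (sheafToPresheaf J' AddCommGrpCat.{u}).mapIso (asIso ((SiteCmp.epsShAdj h AddCommGrpCat.{u}).unit.app F))
      ≪≫ Functor.leftUnitor _
  exact (Presheaf.isSheaf_of_iso_iff e).2 ((SiteCmp.epsShInv h AddCommGrpCat.{u}).obj F).property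

end K579.EpsSh
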