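import Groth.Agent.SiteCmp.K579.OverMap
import Mathlib.CategoryTheory.Limits.Shapes.Pullback.IsPullback.Basic

/-!
# Sections of the right adjoint of restriction along `Over.map f`

* `ev J f K g`: the evaluation `(f_* K)(V) → K(W)` for `g : (Over.map f).obj W ⟶ V`.
* `ev_bijective`: it is bijective if `W = V ×_Y X`.
* `exists_section`: a section `z` of `K` over `X` gives a section of `f_* f^* K` over `Y`.
-/

set_option autoImplicit false
universe u
open CategoryTheory CategoryTheory.Limits Opposite

noncomputable section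
namespace K579.Ev

open Groth.Agent K579.OverMap

variable {C : Type u} [SmallCategory C] (J : GrothendieckTopology C) {X Y : C} (f : X ⟶ Y)

/-- The evaluation `(f_* K)(V) → K(W)` for `g : (Over.map f).obj W ⟶ V`. -/
def ev (K : Sheaf (J.over X) AddCommGrpCat.{u}) {V : Over Y} {W : Over X} (g : (Over.map f).obj W ⟶ V) :
    ((pf J f).obj K).obj.obj (op V) ⟶ K.obj.obj (op W) :=
  ((pf J f).obj K).obj.map g.op ≫ ((adj J f).counit.app K).hom.app (op W)

lemma ev_apply (K : Sheaf (J.over X) AddCommGrpCat.{u}) {V : Over Y} {W : Over X}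
    (g : (Over.map f).obj W ⟶ V) (s : ((pf J f).obj K).obj.obj (op V)) :
    ev J f K g s = ((adj J f).counit.app K).hom.app (op W) (((pf J f).obj K).obj.map g.op s) := rfl

lemma ev_naturality {K K' : Sheaf (J.over X) AddCommGrpCat.{u}} (φ : K ⟶ K') {V : Over Y} {W : Over X}
    (g : (Over.map f).obj W ⟶ V) (s : ((pf J f).obj K).obj.obj (op V)) :
    ev J f K' g (((pf J f).map φ).hom.app (op V) s) = φ.hom.app (op W) (ev J f K g s) := by
  rw [ev_apply, ev_apply]
  have h1 := ConcreteCategory.congr_hom (((pf J f).map φ).hom.naturality g.op) s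
  have h2 := congrArg (fun z => z.hom.app (op W)) ((adj J f).counit.naturality φ)
  have h3 := ConcreteCategory.congr_hom h2 (((pf J f).obj K).obj.map g.op s)
  refine Eq.trans ?_ h3
  exact congrArg (((adj J f).counit.app K').hom.app (op W)) h1.symm

lemma ev_map (K : Sheaf (J.over X) AddCommGrpCat.{u}) {V V' : Over Y} {W W' : Over X}
    (g : (Over.map f).obj W ⟶ V) (g' : (Over.map f).obj W' ⟶ V') (h : V' ⟶ V) (l : W' ⟶ W)
    (hh : g' ≫ h = (Over.map f).map l ≫ g) (s : ((pf J f).obj K).obj.obj (op V)) :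
    ev J f K g' (((pf J f).obj K).obj.map h.op s) = K.obj.map l.op (ev J f K g s) := by
  rw [ev_apply, ev_apply]
  have h1 := congrArg (fun z => ((pf J f).obj K).obj.map z.op s) hh
  simp only [op_comp, ((pf J f).obj K).obj.map_comp, ConcreteCategory.comp_apply] at h1
  have h2 := ConcreteCategory.congr_hom (((adj J f).counit.app K).hom.naturality l.op)
    (((pf J f).obj K).obj.map g.op s)
  refine Eq.trans ?_ h2
  exact congrArg (((adj J f).counit.app K).hom.app (op W')) h1

section

variable {D E : Type u} [SmallCategory D] [SmallCategory E] (G : D ⥤ E)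
  (P : Dᵒᵖ ⥤ AddCommGrpCat.{u})

/-- If `G d ⟶ e` is terminal among such arrows then `(ran P)(e) → P(d)` is an isomorphism. -/
theorem isIso_ran_eval (e : E) (d : D) (g : G.obj d ⟶ e)
    (hg : ∀ (d' : D) (g' : G.obj d' ⟶ e), ∃! l : d' ⟶ d, G.map l ≫ g = g') :
    IsIso ((G.op.ran.obj P).map g.op ≫ ((G.op.ranAdjunction AddCommGrpCat.{u}).counit.app P).app (op d)) := by
  rw [Functor.ranAdjunction_counit]
  let a : StructuredArrow (op e) G.op := StructuredArrow.mk (Y := op d) g.op
  have ha : IsInitial a := by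
    refine IsInitial.ofUniqueHom (fun b => StructuredArrow.homMk (hg b.right.unop b.hom.unop).choose.op ?_) ?_
    · have := (hg b.right.unop b.hom.unop).choose_spec.1
      dsimp at this
      exact congrArg Quiver.Hom.op this
    · intro b m
      ext
      have h1 := StructuredArrow.w m
      have h2 : G.map m.right.unop ≫ g = b.hom.unop := congrArg Quiver.Hom.unop h1
      exact congrArg Quiver.Hom.op ((hg b.right.unop b.hom.unop).choose_spec.2 m.right.unop h2)
  exact (G.op.isPointwiseRightKanExtensionRanCounit P (op e)).isIso_π_app_of_isInitial a ha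

end

/-- Evaluation at the fibre product is bijective. -/
theorem ev_bijective (K : Sheaf (J.over X) AddCommGrpCat.{u}) {V : Over Y} {W : C} (p : W ⟶ V.left)
    (q : W ⟶ X) (h : IsPullback p q V.hom f) :
    Function.Bijective (ev J f K (Over.homMk p h.w : (Over.map f).obj (Over.mk q) ⟶ V)) := by
  have h1 : IsIso (ev J f K (Over.homMk p h.w : (Over.map f).obj (Over.mk q) ⟶ V)) := by
    have h2 := isIso_ran_eval (Over.map f) K.obj V (Over.mk q) (Over.homMk p h.w) (by
      intro d' g'
      have h3 : g'.left ≫ V.hom = d'.hom ≫ f := Over.w g'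
      refine ⟨Over.homMk (h.lift g'.left d'.hom h3) (h.lift_snd _ _ _), ?_, ?_⟩
      · ext
        exact h.lift_fst _ _ _
      · intro l hl
        ext
        have h4 := congrArg (fun z => z.left) hl
        refine h.hom_ext ?_ ?_
        · exact (h4 : l.left ≫ p = g'.left).trans (h.lift_fst _ _ _).symm
        · exact ((Over.w l).trans (h.lift_snd _ _ _).symm))
    have h5 := (Over.map f).sheafAdjunctionCocontinuous_counit_app_hom AddCommGrpCat.{u}
      (J.over X) (J.over Y) K
    unfold ev
    rw [h5]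
    exact h2
  exact ConcreteCategory.bijective_of_isIso _

/-- A section of `K` over `X` gives a section of `f_* f^* K` over `Y`. -/
theorem exists_section (K : Sheaf (J.over Y) AddCommGrpCat.{u}) (z : K.obj.obj (op (Over.mk f))) :
    ∃ ζ : ((mon J f).obj K).obj.obj (op (Over.mk (𝟙 Y))), ∀ (V : Over Y) (W : Over X)
      (k : (Over.map f).obj W ⟶ V),
      ev J f ((res J f).obj K) k (((mon J f).obj K).obj.map
        (Over.homMk V.hom : V ⟶ Over.mk (𝟙 Y)).op ζ) =
      K.obj.map (Over.homMk W.hom : (Over.map f).obj W ⟶ Over.mk f).op z := by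
  have h0 : IsPullback f (𝟙 X) (Over.mk (𝟙 Y)).hom f := by
    have : IsIso (Over.mk (𝟙 Y)).hom := inferInstanceAs (IsIso (𝟙 Y))
    exact IsPullback.of_vert_isIso ⟨by simp⟩
  obtain ⟨ζ, hζ⟩ := (ev_bijective J f ((res J f).obj K) (V := Over.mk (𝟙 Y)) f (𝟙 X) h0).2
    (K.obj.map (Over.homMk (𝟙 X) : (Over.map f).obj (Over.mk (𝟙 X)) ⟶ Over.mk f).op z)
  refine ⟨ζ, fun V W k => ?_⟩
  have h1 := ev_map J f ((res J f).obj K) (V := Over.mk (𝟙 Y)) (V' := V) (W := Over.mk (𝟙 X)) (W' := W)
    (Over.homMk f h0.w) k (Over.homMk V.hom : V ⟶ Over.mk (𝟙 Y)) (Over.homMk W.hom) (by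
      ext
      simp) ζ
  refine h1.trans ?_
  rw [hζ]
  change K.obj.map ((Over.map f).map _).op (K.obj.map _ z) = _
  rw [← ConcreteCategory.comp_apply, ← K.obj.map_comp, ← op_comp]
  have h2 : (Over.map f).map (Over.homMk W.hom : W ⟶ Over.mk (𝟙 X)) ≫
      (Over.homMk (𝟙 X) : (Over.map f).obj (Over.mk (𝟙 X)) ⟶ Over.mk f) =
      (Over.homMk W.hom : (Over.map f).obj W ⟶ Over.mk f) := by
    ext
    exact Category.comp_id _
  exact congrArg (fun k => K.obj.map k.op z) h2

end K579.Ev
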