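import Groth.Agent.PerfC.AcyclicBdd
import Mathlib.Algebra.Homology.DerivedCategory.Ext.EnoughInjectives
import Mathlib.Algebra.Homology.DerivedCategory.Ext.ExactSequences

/-!
# Objects acyclic for the images of injective objects under a right adjoint

`L ⊣ F`, `L : B ⥤ A`. `Good F X`: `Ext^{n+1}(X, F I) = 0` for all injective objects `I` of `A`.

* `adapted`: good objects are adapted to `L`;
* `good_biprod`, `good_cofan`: finite sums and coproducts of good objects are good.
-/

set_option autoImplicit false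
set_option linter.unusedSectionVars false
universe w v v' u u'
open CategoryTheory CategoryTheory.Limits CategoryTheory.Abelian

namespace K579.GoodObj

open Groth.Agent.PerfC.AcyclicBdd

section Cofan

variable {B : Type u'} [Category.{v'} B] [Abelian B] [HasExt.{w} B]

/-- `Ext^{n+1}(∐ X_i, Y) = 0` if `Ext^{n+1}(X_i, Y) = 0` for all `i`. -/
theorem ext_cofan_eq_zero [EnoughInjectives B] {ι : Type*} (X : ι → B) (c : Cofan X) (hc : IsColimit c)
    (n : ℕ) : ∀ (Y : B) (_ : ∀ i (x : Ext (X i) Y (n + 1)), x = 0) (x : Ext c.pt Y (n + 1)), x = 0 := by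
  induction n with
  | zero =>
    intro Y h x
    let I : InjectivePresentation Y := Classical.arbitrary _
    let S := ShortComplex.mk _ _ (cokernel.condition I.f)
    have hI : Injective S.X₂ := I.injective
    have hS : S.ShortExact := { exact := ShortComplex.exact_cokernel I.f }
    obtain ⟨y, hy⟩ := Ext.covariant_sequence_exact₁ c.pt hS x (Ext.eq_zero_of_injective _) (n₀ := 0) rfl
    obtain ⟨g, rfl⟩ := (Ext.mk₀_bijective _ _).2 y
    have h1 : ∀ i, ∃ k : X i ⟶ S.X₂, k ≫ S.g = c.inj i ≫ g := by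
      intro i
      obtain ⟨k, hk⟩ := Ext.covariant_sequence_exact₃ (X i) hS (Ext.mk₀ (c.inj i ≫ g)) (zero_add 1) (h i _)
      obtain ⟨k, rfl⟩ := (Ext.mk₀_bijective _ _).2 k
      rw [Ext.mk₀_comp_mk₀] at hk
      exact ⟨k, (Ext.mk₀_bijective _ _).1 hk⟩
    choose k hk using h1
    have h2 : Cofan.IsColimit.desc hc k ≫ S.g = g := by
      refine Cofan.IsColimit.hom_ext hc _ _ fun i => ?_
      rw [← Category.assoc, Cofan.IsColimit.fac, hk]
    rw [← hy, ← h2, ← Ext.mk₀_comp_mk₀, Ext.comp_assoc _ _ _ (zero_add 0) (zero_add 1) (by omega),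
      hS.comp_extClass, Ext.comp_zero]
  | succ n ih =>
    intro Y h x
    let I : InjectivePresentation Y := Classical.arbitrary _
    let S := ShortComplex.mk _ _ (cokernel.condition I.f)
    have hI : Injective S.X₂ := I.injective
    have hS : S.ShortExact := { exact := ShortComplex.exact_cokernel I.f }
    obtain ⟨y, hy⟩ := Ext.covariant_sequence_exact₁ c.pt hS x (Ext.eq_zero_of_injective _) (n₀ := n + 1) rfl
    have h1 : y = 0 := by
      refine ih S.X₃ (fun i z => ?_) y
      obtain ⟨t, ht⟩ := Ext.covariant_sequence_exact₃ (X i) hS z (rfl : n + 1 + 1 = n + 2) (h i _)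
      rw [← ht, Ext.eq_zero_of_injective t, Ext.zero_comp]
    rw [← hy, h1, Ext.zero_comp]

end Cofan

variable {A : Type u} [Category.{v} A] [Abelian A] {B : Type u'} [Category.{v'} B] [Abelian B]
  [HasExt.{w} B] {L : B ⥤ A} (F : A ⥤ B) (adj : L ⊣ F)

/-- Objects `X` with `Ext^{n+1}(X, F I) = 0` for all injective `I`. -/
def Good : ObjectProperty B := fun X =>
  ∀ (I : A) [Injective I] (n : ℕ) (x : Ext X (F.obj I) (n + 1)), x = 0

lemma good_of_isZero (X : B) (hX : IsZero X) : Good F X := by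
  intro I _ n x
  have h1 : (Ext.mk₀ (𝟙 X)).comp x (zero_add (n + 1)) = x := Ext.mk₀_id_comp x
  rw [← h1, hX.eq_of_src (𝟙 X) 0, Ext.mk₀_zero, Ext.zero_comp]

lemma good_ker (S : ShortComplex B) (hS : S.ShortExact) (h₂ : Good F S.X₂) (h₃ : Good F S.X₃) :
    Good F S.X₁ := by
  intro I _ n x
  obtain ⟨y, hy⟩ := Ext.contravariant_sequence_exact₁ hS (F.obj I) x (add_comm 1 (n + 1)) (h₃ I (n + 1) _)
  rw [← hy, h₂ I n y, Ext.comp_zero]

lemma good_ext (S : ShortComplex B) (hS : S.ShortExact) (h₁ : Good F S.X₁) (h₃ : Good F S.X₃) :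
    Good F S.X₂ := by
  intro I _ n x
  obtain ⟨y, hy⟩ := Ext.contravariant_sequence_exact₂ hS (F.obj I) x (h₁ I n _)
  rw [← hy, h₃ I n y, Ext.comp_zero]

lemma good_biprod (X Y : B) (hX : Good F X) (hY : Good F Y) : Good F (X ⊞ Y) := by
  let S : ShortComplex B := ShortComplex.mk (biprod.inl : X ⟶ X ⊞ Y) biprod.snd biprod.inl_snd
  have hS : S.ShortExact := (ShortComplex.Splitting.ofHasBinaryBiproduct X Y).shortExact
  exact good_ext F S hS hX hY

theorem good_cofan [EnoughInjectives B] {ι : Type*} (X : ι → B) (c : Cofan X) (hc : IsColimit c)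
    (h : ∀ i, Good F (X i)) : Good F c.pt :=
  fun I _ n x => ext_cofan_eq_zero X c hc n (F.obj I) (fun i z => h i I n z) x

variable {F}

include adj in
/-- Good objects are adapted to the left adjoint `L`. -/
theorem adapted [EnoughInjectives A] [L.Additive] : Adapted L (Good F) where
  zero := good_of_isZero F
  ker := good_ker F
  mono S hS h₃ := by
    let g : S.X₁ ⟶ F.obj (Injective.under (L.obj S.X₁)) := adj.homEquiv _ _ (Injective.ι (L.obj S.X₁))
    obtain ⟨y, hy⟩ := Ext.contravariant_sequence_exact₁ hS (F.obj (Injective.under (L.obj S.X₁)))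
      (Ext.mk₀ g) (add_comm 1 0) (h₃ _ 0 _)
    obtain ⟨k, rfl⟩ := (Ext.mk₀_bijective _ _).2 y
    rw [Ext.mk₀_comp_mk₀] at hy
    have h1 := (Ext.mk₀_bijective _ _).1 hy
    have h2 : L.map S.f ≫ (adj.homEquiv _ _).symm k = Injective.ι (L.obj S.X₁) := by
      rw [← adj.homEquiv_naturality_left_symm, h1]
      exact Equiv.symm_apply_apply _ _
    have h3 : Mono (L.map S.f ≫ (adj.homEquiv _ _).symm k) := by
      rw [h2]
      infer_instance
    exact mono_of_mono _ ((adj.homEquiv _ _).symm k)

end K579.GoodObj
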