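import Groth.Agent.Sga4h.WayOut

/-!
# Total right derived functors of objects with a gap in their cohomology

`TR G` is the total right derived functor (`Etrest.RDer3`).
* `nonempty_iso_homology_TR`: if `K` is `≥ a` and `H^i(K) = 0` for `a < i ≤ a + n` then
  `H^{a+q}(TR G K) ≅ R^q G (H^a K)` for `q ≤ n`.
* `exists_TR_seq`: `0 → R^{n+1} G (H^a K) → H^{a+n+1}(TR G K) → H^{a+n+1}(TR G Y)` exact,
  for `K ⟶ Y` the truncation `≥ a + n + 1`.
* `U G u : 𝟭 ⟶ TR G` for `u : 𝟭 ⟶ G`, computed on complexes; `comp_homology_U_eq_zero`.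
-/

set_option autoImplicit false
universe w w' v v' u u'
open CategoryTheory CategoryTheory.Limits

noncomputable section
namespace K579.TRTrunc

open Groth.Agent Groth.Agent.Etrest.RDer3 Groth.Agent.Sga4h.WayOut DerivedCategory Pretriangulated

section gap

variable {A : Type u} [Category.{v} A] [Abelian A] [HasDerivedCategory.{w} A]

/-- The truncation of an object with a gap. -/
theorem exists_trunc_gap (K : DerivedCategory A) (a : ℤ) [K.IsGE a] (n : ℕ)
    (hK : ∀ i : ℤ, a < i → i ≤ a + n → IsZero ((homologyFunctor A i).obj K)) :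
    ∃ (Y : DerivedCategory A) (M : A) (f : (singleFunctor A a).obj M ⟶ K) (g : K ⟶ Y)
      (h : Y ⟶ ((singleFunctor A a).obj M)⟦(1 : ℤ)⟧),
      Triangle.mk f g h ∈ distTriang (DerivedCategory A) ∧ Y.IsGE (a + n + 1) ∧
      Nonempty (M ≅ (homologyFunctor A a).obj K) ∧
      ∀ i : ℤ, a < i → IsIso ((homologyFunctor A i).map g) := by
  obtain ⟨X, Y, hX, hY, f, g, δ, hT⟩ := Cohder.KZDevissage.exists_trunc K a
  have hXa : X.IsGE a := Cohder.KZDevissage.trunc₁_isGE hT a a
  have hf : IsIso ((homologyFunctor A a).map f) := Cohder.KZDevissage.isIso_trunc₁ hT a a le_rfl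
  obtain ⟨M, ⟨e⟩⟩ := exists_iso_singleFunctor_obj_of_isGE_of_isLE X a
  have hg : ∀ i : ℤ, a < i → IsIso ((homologyFunctor A i).map g) := fun i hi =>
    Cohder.KZDevissage.isIso_trunc₂ hT a i hi
  refine ⟨Y, M, e.inv ≫ f, g, δ ≫ (shiftFunctor _ (1 : ℤ)).map e.hom, ?_, ?_, ?_, hg⟩
  · refine isomorphic_distinguished _ hT _ (Triangle.isoMk _ _ e.symm (Iso.refl _) (Iso.refl _)
      ?_ ?_ ?_)
    · exact Category.comp_id _
    · exact (Category.comp_id _).trans (Category.id_comp _).symm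
    · change (δ ≫ (shiftFunctor _ (1 : ℤ)).map e.hom) ≫ (shiftFunctor _ (1 : ℤ)).map e.inv = 𝟙 _ ≫ δ
      rw [Category.assoc, ← CategoryTheory.Functor.map_comp, e.hom_inv_id,
        CategoryTheory.Functor.map_id, Category.comp_id, Category.id_comp]
  · rw [isGE_iff]
    intro i hi
    by_cases h' : a < i
    · have := hg i h'
      exact (hK i h' (by lia)).of_iso (asIso ((homologyFunctor A i).map g)).symm
    · exact isZero_of_isGE Y (a + 1) i (by lia)
  · exact ⟨(((singleFunctorCompHomologyFunctorIso A a).app M).symm ≪≫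
      (homologyFunctor A a).mapIso e.symm ≪≫ asIso ((homologyFunctor A a).map f))⟩

end gap

section TR

variable {A : Type u} [Category.{v} A] [Abelian A] [HasDerivedCategory.{w} A] [EnoughInjectives A]
  [HasKInj A] {B : Type u'} [Category.{v'} B] [Abelian B] [HasDerivedCategory.{w'} B]
  (G : A ⥤ B) [G.Additive]

theorem nonempty_iso_TR_single (M : A) (a : ℤ) (q : ℕ) :
    Nonempty ((homologyFunctor B (a + q)).obj ((TR G).obj ((singleFunctor A a).obj M)) ≅
      (G.rightDerived q).obj M) := by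
  obtain ⟨e⟩ := nonempty_iso_homology_single (TR G) M a (a + q) q rfl
  exact ⟨e ≪≫ (HTRsingle G q).app M⟩

/-- `0 → R^{n+1} G (H^a K) → H^{a+n+1}(TR G K) → H^{a+n+1}(TR G Y)` is exact. -/
theorem exists_TR_seq (K : DerivedCategory A) (a : ℤ) [K.IsGE a] (n : ℕ)
    (hK : ∀ i : ℤ, a < i → i ≤ a + n → IsZero ((homologyFunctor A i).obj K)) :
    ∃ (Y : DerivedCategory A) (g : K ⟶ Y), Y.IsGE (a + n + 1) ∧
      (∀ i : ℤ, a < i → IsIso ((homologyFunctor A i).map g)) ∧
      (∀ q : ℕ, q ≤ n → Nonempty ((homologyFunctor B (a + q)).obj ((TR G).obj K) ≅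
        (G.rightDerived q).obj ((homologyFunctor A a).obj K))) ∧
      ∃ (W : B) (j : W ⟶ (homologyFunctor B (a + (n + 1 : ℕ))).obj ((TR G).obj K))
        (w : j ≫ (homologyFunctor B (a + (n + 1 : ℕ))).map ((TR G).map g) = 0),
        Nonempty (W ≅ (G.rightDerived (n + 1)).obj ((homologyFunctor A a).obj K)) ∧
        Mono j ∧ (ShortComplex.mk _ _ w).Exact := by
  obtain ⟨Y, M, f, g, h, hT, hY, ⟨e⟩, hg⟩ := exists_trunc_gap K a n hK
  have hFT := (TR G).map_distinguished _ hT
  have hTY : ((TR G).obj Y).IsGE (a + n + 1) := TR_isGE G Y _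
  refine ⟨Y, g, hY, hg, ?_, ?_⟩
  · intro q hq
    have h₁ : Mono ((homologyFunctor B (a + q)).map ((TR G).map f)) := by
      refine (HomologySequence.mono_homologyMap_mor₁_iff _ hFT (a + q - 1) (a + q) (by lia)).2 ?_
      exact (isZero_of_isGE ((TR G).obj Y) (a + n + 1) (a + q - 1) (by lia)).eq_of_src _ _
    have h₂ : Epi ((homologyFunctor B (a + q)).map ((TR G).map f)) := by
      refine (HomologySequence.epi_homologyMap_mor₁_iff _ hFT (a + q)).2 ?_
      exact (isZero_of_isGE ((TR G).obj Y) (a + n + 1) (a + q) (by lia)).eq_of_tgt _ _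
    have h₃ : IsIso ((homologyFunctor B (a + q)).map ((TR G).map f)) := isIso_of_mono_of_epi _
    obtain ⟨e'⟩ := nonempty_iso_TR_single G M a q
    exact ⟨(asIso ((homologyFunctor B (a + q)).map ((TR G).map f))).symm ≪≫ e' ≪≫
      (G.rightDerived q).mapIso e⟩
  · obtain ⟨e'⟩ := nonempty_iso_TR_single G M a (n + 1)
    refine ⟨_, (homologyFunctor B (a + (n + 1 : ℕ))).map ((TR G).map f), ?_,
      ⟨e' ≪≫ (G.rightDerived (n + 1)).mapIso e⟩, ?_, ?_⟩
    · rw [← Functor.map_comp]
      have : (TR G).map f ≫ (TR G).map g = 0 := comp_distTriang_mor_zero₁₂ _ hFT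
      rw [this, Functor.map_zero]
    · refine (HomologySequence.mono_homologyMap_mor₁_iff _ hFT (a + n) (a + (n + 1 : ℕ))
        (by push_cast; lia)).2 ?_
      exact (isZero_of_isGE ((TR G).obj Y) (a + n + 1) (a + n) (by lia)).eq_of_src _ _
    · exact HomologySequence.exact₂ _ hFT (a + (n + 1 : ℕ))

theorem nonempty_iso_homology_TR (K : DerivedCategory A) (a : ℤ) [K.IsGE a] (n : ℕ)
    (hK : ∀ i : ℤ, a < i → i ≤ a + n → IsZero ((homologyFunctor A i).obj K)) (q : ℕ) (hq : q ≤ n) :
    Nonempty ((homologyFunctor B (a + q)).obj ((TR G).obj K) ≅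
        (G.rightDerived q).obj ((homologyFunctor A a).obj K)) := by
  obtain ⟨Y, g, -, -, h, -⟩ := exists_TR_seq G K a n hK
  exact h q hq

end TR

section U

variable {A : Type u} [Category.{v} A] [Abelian A] (G : A ⥤ A) [G.Additive] (η : 𝟭 A ⟶ G)

/-- The natural transformation on complexes induced by `η : 𝟭 A ⟶ G`. -/
@[simps]
def uC : 𝟭 (CochainComplex A ℤ) ⟶ G.mapHomologicalComplex (.up ℤ) where
  app K := { f := fun i => η.app (K.X i)
             comm' := fun i j _ => (η.naturality (K.d i j)).symm }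
  naturality K L f := by
    ext i
    exact η.naturality (f.f i)

section incl

variable (K : CochainComplex A ℤ) (m : ℤ) [K.IsStrictlyGE m]

lemma toCycles_eq_zero : K.toCycles ((ComplexShape.up ℤ).prev m) m = 0 := by
  rw [← cancel_mono (K.iCycles m), HomologicalComplex.toCycles_i, zero_comp]
  exact (K.isZero_of_isStrictlyGE m _ (by simp)).eq_of_src _ _

instance isIso_homologyπ_of_isStrictlyGE : IsIso (K.homologyπ m) := by
  have h : K.d ((ComplexShape.up ℤ).prev m) m = 0 :=
    (K.isZero_of_isStrictlyGE m _ (by simp)).eq_of_src _ _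
  exact K.isIso_homologyπ _ _ rfl h

/-- `H^m(K) ⟶ K^m` for `K` strictly `≥ m`. -/
def incl : K.homology m ⟶ K.X m := inv (K.homologyπ m) ≫ K.iCycles m

instance : Mono (incl K m) := by
  dsimp [incl]
  infer_instance

variable {K} {L : CochainComplex A ℤ} [L.IsStrictlyGE m] (f : K ⟶ L)

lemma incl_naturality : HomologicalComplex.homologyMap f m ≫ incl L m = incl K m ≫ f.f m := by
  dsimp [incl]
  rw [← cancel_epi (K.homologyπ m)]
  simp

end incl

variable [HasDerivedCategory.{w} A] [HasKInj A]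

/-- `U : 𝟭 ⟶ TR G` on complexes. -/
def UQ : (DerivedCategory.Q : CochainComplex A ℤ ⥤ _) ⋙ 𝟭 (DerivedCategory A) ⟶
    DerivedCategory.Q ⋙ TR G where
  app K := DerivedCategory.Q.map ((uC G η).app K) ≫ (unitQ G).app K
  naturality K L f := by
    have h1 := (uC G η).naturality f
    have h2 := (unitQ G).naturality f
    dsimp at h1 h2 ⊢
    rw [← Functor.map_comp_assoc, h1, Functor.map_comp_assoc, Category.assoc, h2]

/-- The natural transformation `𝟭 ⟶ TR G` induced by `η : 𝟭 ⟶ G`. -/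
def U : 𝟭 (DerivedCategory A) ⟶ TR G :=
  Localization.liftNatTrans DerivedCategory.Q (HomologicalComplex.quasiIso A (.up ℤ)) _ _ _ _ (UQ G η)

lemma U_app (K : CochainComplex A ℤ) : (U G η).app (DerivedCategory.Q.obj K) =
    DerivedCategory.Q.map ((uC G η).app K) ≫ (unitQ G).app K := by
  dsimp only [U]
  rw [Localization.liftNatTrans_app]
  simp [UQ]

/-- If `s : S ⟶ H^m(Y)` is killed by `H^m(Y) ⟶ G (H^m Y)` and `Y` is `≥ m` then it is killed by
`H^m(Y) ⟶ H^m(TR G Y)`. -/
theorem comp_homology_U_eq_zero [EnoughInjectives A] (Y : DerivedCategory A) (m : ℤ) [Y.IsGE m]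
    {S : A} (s : S ⟶ (homologyFunctor A m).obj Y) (hs : s ≫ η.app _ = 0) :
    s ≫ (homologyFunctor A m).map ((U G η).app Y) = 0 := by
  obtain ⟨Y₀, hY₀, hK, hI, ⟨e⟩⟩ := exists_inj_iso Y m
  have := isIso_unitQ_of_isKInjective G Y₀ hK
  have nat := (U G η).naturality e.hom
  dsimp at nat
  obtain ⟨i, hi⟩ : ∃ i : (homologyFunctor A m).obj Y ⟶ Y₀.homology m,
      i = (homologyFunctor A m).map e.hom ≫ (homologyFunctorFactors A m).hom.app Y₀ := ⟨_, rfl⟩
  obtain ⟨s', hss'⟩ : ∃ s' : S ⟶ Y₀.homology m, s' = s ≫ i := ⟨_, rfl⟩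
  have hs' : s' ≫ η.app (Y₀.homology m) = 0 := by
    have h1 : i ≫ η.app (Y₀.homology m) = η.app _ ≫ G.map i := η.naturality i
    rw [hss', Category.assoc, h1, ← Category.assoc]
    exact (congrArg (fun z => z ≫ G.map i) hs).trans zero_comp
  have h3 : s' ≫ HomologicalComplex.homologyMap ((uC G η).app Y₀) m = 0 := by
    have : CochainComplex.IsStrictlyGE ((G.mapHomologicalComplex (.up ℤ)).obj Y₀) m := inferInstance
    have : CochainComplex.IsStrictlyGE ((𝟭 (CochainComplex A ℤ)).obj Y₀) m := hY₀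
    rw [← cancel_mono (incl _ m), Category.assoc, incl_naturality, zero_comp]
    have h4 : incl Y₀ m ≫ η.app (Y₀.X m) = η.app (Y₀.homology m) ≫ G.map (incl Y₀ m) :=
      η.naturality (incl Y₀ m)
    have h5 : s' ≫ incl Y₀ m ≫ η.app (Y₀.X m) = 0 := by
      rw [h4, ← Category.assoc, hs', zero_comp]
    exact h5
  have h6 : s ≫ (homologyFunctor A m).map e.hom ≫
      (homologyFunctor A m).map (DerivedCategory.Q.map ((uC G η).app Y₀)) = 0 := by
    rw [← cancel_mono ((homologyFunctorFactors A m).hom.app _)]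
    simp only [Category.assoc]
    rw [homologyFunctorFactors_hom_naturality, zero_comp]
    rw [hss', hi, Category.assoc] at h3
    exact (congrArg (fun z => s ≫ z) (Category.assoc _ _ _).symm).trans h3
  rw [← cancel_mono ((homologyFunctor A m).map ((TR G).map e.hom)), Category.assoc,
    ← Functor.map_comp, ← nat, U_app, Functor.map_comp, Functor.map_comp, reassoc_of% h6, zero_comp,
    zero_comp]

end U

end K579.TRTrunc
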